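import Cfsg.Agent.H18.TEg.V.D0

/-! Generated by tools/h0/tr.py. -/

set_option maxRecDepth 100000
set_option maxHeartbeats 0

namespace H18.TE.V
open H16 H0.TR
open scoped commutatorElement

theorem tp_p : allZ2 (pcEnt t_P (nat_lit 2) H18.TE.V.B tpC) 16 16 = true := by decide +kernel

end H18.TE.V
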