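import Cfsg.Agent.H18.TEg.V.D0

/-! Generated by tools/h0/tr.py. -/

set_option maxRecDepth 100000
set_option maxHeartbeats 0

namespace H18.TE.V
open H16 H0.TR
open scoped commutatorElement

theorem tp_e : allL (ltAll 16) tpe = true := by decide +kernel
theorem tpl0_e_0 : allZ (dent tpl0 (wdsP t_P tpe) (nat_lit 672)) (nat_lit 0) (nat_lit 127) = true := by decide +kernel
theorem tpl0_h : 0 < tpl0.n ∧ 0 < tpl0.K ∧ tpl0.Pt 0 < 672 ∧ tpl0.Q (tpl0.Pt 0) = 0 := by decide +kernel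
theorem tpl1_e_0 : allZ (dent tpl1 (wdsP t_P tpe) (nat_lit 672)) (nat_lit 0) (nat_lit 127) = true := by decide +kernel
theorem tpl1_h : 0 < tpl1.n ∧ 0 < tpl1.K ∧ tpl1.Pt 0 < 672 ∧ tpl1.Q (tpl1.Pt 0) = 0 := by decide +kernel
theorem tpl2_e_0 : allZ (dent tpl2 (wdsP t_P tpe) (nat_lit 672)) (nat_lit 0) (nat_lit 3) = true := by decide +kernel
theorem tpl2_h : 0 < tpl2.n ∧ 0 < tpl2.K ∧ tpl2.Pt 0 < 672 ∧ tpl2.Q (tpl2.Pt 0) = 0 := by decide +kernel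
theorem tp_f2 : (Nat.ble tpl2.K 22 && Nat.ble (topK []) tpl2.K && fixLetters (wdsP t_P tpe) (topK []) (tpl2.Pt 0)) = true := by decide +kernel
theorem tp_f1 : (Nat.ble tpl1.K 22 && Nat.ble (topK [tpl2]) tpl1.K && fixLetters (wdsP t_P tpe) (topK [tpl2]) (tpl1.Pt 0)) = true := by decide +kernel
theorem tp_f0 : (Nat.ble tpl0.K 22 && Nat.ble (topK [tpl1, tpl2]) tpl0.K && fixLetters (wdsP t_P tpe) (topK [tpl1, tpl2]) (tpl0.Pt 0)) = true := by decide +kernel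
theorem tp_c : chainCard [tpl0, tpl1, tpl2] = 2 ^ 16 := by decide +kernel
theorem tc_k : allZ2 (fun a j => force a fun a => force j fun j => cjL t_P t_P 9 H18.TE.V.B a [j] [j]) 9 9 = true := by decide +kernel
theorem tq_k : allZ (fun k => force k fun k => fixL t_P 9 H18.TE.V.B (List.replicate 2 k)) 0 9 = true := by decide +kernel
theorem th_i_0 : allZ (H0.Fi.invEnt t_P (nat_lit 9) thA) (nat_lit 0) (nat_lit 672) = true := by decide +kernel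
theorem th_k_0_0 : allZ (H0.Fi.ncEnt t_P (fun i => ifz (H0.Fi.bit thA i) 0 1) [nat_lit 402, nat_lit 3, nat_lit 163, nat_lit 401, nat_lit 36] thK (H0.Fi.digW (nat_lit 2) (nat_lit 9) (nat_lit 7)) (H0.Fi.digW (nat_lit 2) (nat_lit 9) (nat_lit 7)) (nat_lit 0)) (nat_lit 0) (nat_lit 128) = true := by decide +kernel
theorem th_k_1_0 : allZ (H0.Fi.ncEnt t_P (fun i => ifz (H0.Fi.bit thA i) 0 1) [nat_lit 402, nat_lit 3, nat_lit 163, nat_lit 401, nat_lit 36] thK (H0.Fi.digW (nat_lit 2) (nat_lit 9) (nat_lit 7)) (H0.Fi.digW (nat_lit 2) (nat_lit 9) (nat_lit 7)) (nat_lit 1)) (nat_lit 0) (nat_lit 128) = true := by decide +kernel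
theorem th_k_2_0 : allZ (H0.Fi.ncEnt t_P (fun i => ifz (H0.Fi.bit thA i) 0 1) [nat_lit 402, nat_lit 3, nat_lit 163, nat_lit 401, nat_lit 36] thK (H0.Fi.digW (nat_lit 2) (nat_lit 9) (nat_lit 7)) (H0.Fi.digW (nat_lit 2) (nat_lit 9) (nat_lit 7)) (nat_lit 2)) (nat_lit 0) (nat_lit 128) = true := by decide +kernel
theorem th_k_3_0 : allZ (H0.Fi.ncEnt t_P (fun i => ifz (H0.Fi.bit thA i) 0 1) [nat_lit 402, nat_lit 3, nat_lit 163, nat_lit 401, nat_lit 36] thK (H0.Fi.digW (nat_lit 2) (nat_lit 9) (nat_lit 7)) (H0.Fi.digW (nat_lit 2) (nat_lit 9) (nat_lit 7)) (nat_lit 3)) (nat_lit 0) (nat_lit 128) = true := by decide +kernel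
theorem th_k_4_0 : allZ (H0.Fi.ncEnt t_P (fun i => ifz (H0.Fi.bit thA i) 0 1) [nat_lit 402, nat_lit 3, nat_lit 163, nat_lit 401, nat_lit 36] thK (H0.Fi.digW (nat_lit 2) (nat_lit 9) (nat_lit 7)) (H0.Fi.digW (nat_lit 2) (nat_lit 9) (nat_lit 7)) (nat_lit 4)) (nat_lit 0) (nat_lit 128) = true := by decide +kernel
theorem th_k_5_0 : allZ (H0.Fi.ncEnt t_P (fun i => ifz (H0.Fi.bit thA i) 0 1) [nat_lit 402, nat_lit 3, nat_lit 163, nat_lit 401, nat_lit 36] thK (H0.Fi.digW (nat_lit 2) (nat_lit 9) (nat_lit 7)) (H0.Fi.digW (nat_lit 2) (nat_lit 9) (nat_lit 7)) (nat_lit 5)) (nat_lit 0) (nat_lit 128) = true := by decide +kernel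
theorem th_k_6_0 : allZ (H0.Fi.ncEnt t_P (fun i => ifz (H0.Fi.bit thA i) 0 1) [nat_lit 402, nat_lit 3, nat_lit 163, nat_lit 401, nat_lit 36] thK (H0.Fi.digW (nat_lit 2) (nat_lit 9) (nat_lit 7)) (H0.Fi.digW (nat_lit 2) (nat_lit 9) (nat_lit 7)) (nat_lit 6)) (nat_lit 0) (nat_lit 128) = true := by decide +kernel
theorem th_k_7_0 : allZ (H0.Fi.ncEnt t_P (fun i => ifz (H0.Fi.bit thA i) 0 1) [nat_lit 402, nat_lit 3, nat_lit 163, nat_lit 401, nat_lit 36] thK (H0.Fi.digW (nat_lit 2) (nat_lit 9) (nat_lit 7)) (H0.Fi.digW (nat_lit 2) (nat_lit 9) (nat_lit 7)) (nat_lit 7)) (nat_lit 0) (nat_lit 128) = true := by decide +kernel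
theorem th_k_8_0 : allZ (H0.Fi.ncEnt t_P (fun i => ifz (H0.Fi.bit thA i) 0 1) [nat_lit 402, nat_lit 3, nat_lit 163, nat_lit 401, nat_lit 36] thK (H0.Fi.digW (nat_lit 2) (nat_lit 9) (nat_lit 7)) (H0.Fi.digW (nat_lit 2) (nat_lit 9) (nat_lit 7)) (nat_lit 8)) (nat_lit 0) (nat_lit 128) = true := by decide +kernel
theorem th_k_9_0 : allZ (H0.Fi.ncEnt t_P (fun i => ifz (H0.Fi.bit thA i) 0 1) [nat_lit 402, nat_lit 3, nat_lit 163, nat_lit 401, nat_lit 36] thK (H0.Fi.digW (nat_lit 2) (nat_lit 9) (nat_lit 7)) (H0.Fi.digW (nat_lit 2) (nat_lit 9) (nat_lit 7)) (nat_lit 9)) (nat_lit 0) (nat_lit 128) = true := by decide +kernel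
theorem th_k_10_0 : allZ (H0.Fi.ncEnt t_P (fun i => ifz (H0.Fi.bit thA i) 0 1) [nat_lit 402, nat_lit 3, nat_lit 163, nat_lit 401, nat_lit 36] thK (H0.Fi.digW (nat_lit 2) (nat_lit 9) (nat_lit 7)) (H0.Fi.digW (nat_lit 2) (nat_lit 9) (nat_lit 7)) (nat_lit 10)) (nat_lit 0) (nat_lit 128) = true := by decide +kernel
theorem th_k_11_0 : allZ (H0.Fi.ncEnt t_P (fun i => ifz (H0.Fi.bit thA i) 0 1) [nat_lit 402, nat_lit 3, nat_lit 163, nat_lit 401, nat_lit 36] thK (H0.Fi.digW (nat_lit 2) (nat_lit 9) (nat_lit 7)) (H0.Fi.digW (nat_lit 2) (nat_lit 9) (nat_lit 7)) (nat_lit 11)) (nat_lit 0) (nat_lit 128) = true := by decide +kernel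
theorem th_k_12_0 : allZ (H0.Fi.ncEnt t_P (fun i => ifz (H0.Fi.bit thA i) 0 1) [nat_lit 402, nat_lit 3, nat_lit 163, nat_lit 401, nat_lit 36] thK (H0.Fi.digW (nat_lit 2) (nat_lit 9) (nat_lit 7)) (H0.Fi.digW (nat_lit 2) (nat_lit 9) (nat_lit 7)) (nat_lit 12)) (nat_lit 0) (nat_lit 128) = true := by decide +kernel
theorem th_k_13_0 : allZ (H0.Fi.ncEnt t_P (fun i => ifz (H0.Fi.bit thA i) 0 1) [nat_lit 402, nat_lit 3, nat_lit 163, nat_lit 401, nat_lit 36] thK (H0.Fi.digW (nat_lit 2) (nat_lit 9) (nat_lit 7)) (H0.Fi.digW (nat_lit 2) (nat_lit 9) (nat_lit 7)) (nat_lit 13)) (nat_lit 0) (nat_lit 128) = true := by decide +kernel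
theorem th_k_14_0 : allZ (H0.Fi.ncEnt t_P (fun i => ifz (H0.Fi.bit thA i) 0 1) [nat_lit 402, nat_lit 3, nat_lit 163, nat_lit 401, nat_lit 36] thK (H0.Fi.digW (nat_lit 2) (nat_lit 9) (nat_lit 7)) (H0.Fi.digW (nat_lit 2) (nat_lit 9) (nat_lit 7)) (nat_lit 14)) (nat_lit 0) (nat_lit 128) = true := by decide +kernel
theorem th_k_15_0 : allZ (H0.Fi.ncEnt t_P (fun i => ifz (H0.Fi.bit thA i) 0 1) [nat_lit 402, nat_lit 3, nat_lit 163, nat_lit 401, nat_lit 36] thK (H0.Fi.digW (nat_lit 2) (nat_lit 9) (nat_lit 7)) (H0.Fi.digW (nat_lit 2) (nat_lit 9) (nat_lit 7)) (nat_lit 15)) (nat_lit 0) (nat_lit 128) = true := by decide +kernel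
theorem th_k_16_0 : allZ (H0.Fi.ncEnt t_P (fun i => ifz (H0.Fi.bit thA i) 0 1) [nat_lit 402, nat_lit 3, nat_lit 163, nat_lit 401, nat_lit 36] thK (H0.Fi.digW (nat_lit 2) (nat_lit 9) (nat_lit 7)) (H0.Fi.digW (nat_lit 2) (nat_lit 9) (nat_lit 7)) (nat_lit 16)) (nat_lit 0) (nat_lit 128) = true := by decide +kernel
theorem th_k_17_0 : allZ (H0.Fi.ncEnt t_P (fun i => ifz (H0.Fi.bit thA i) 0 1) [nat_lit 402, nat_lit 3, nat_lit 163, nat_lit 401, nat_lit 36] thK (H0.Fi.digW (nat_lit 2) (nat_lit 9) (nat_lit 7)) (H0.Fi.digW (nat_lit 2) (nat_lit 9) (nat_lit 7)) (nat_lit 17)) (nat_lit 0) (nat_lit 128) = true := by decide +kernel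
theorem th_k_18_0 : allZ (H0.Fi.ncEnt t_P (fun i => ifz (H0.Fi.bit thA i) 0 1) [nat_lit 402, nat_lit 3, nat_lit 163, nat_lit 401, nat_lit 36] thK (H0.Fi.digW (nat_lit 2) (nat_lit 9) (nat_lit 7)) (H0.Fi.digW (nat_lit 2) (nat_lit 9) (nat_lit 7)) (nat_lit 18)) (nat_lit 0) (nat_lit 128) = true := by decide +kernel
theorem th_k_19_0 : allZ (H0.Fi.ncEnt t_P (fun i => ifz (H0.Fi.bit thA i) 0 1) [nat_lit 402, nat_lit 3, nat_lit 163, nat_lit 401, nat_lit 36] thK (H0.Fi.digW (nat_lit 2) (nat_lit 9) (nat_lit 7)) (H0.Fi.digW (nat_lit 2) (nat_lit 9) (nat_lit 7)) (nat_lit 19)) (nat_lit 0) (nat_lit 128) = true := by decide +kernel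
theorem th_k_20_0 : allZ (H0.Fi.ncEnt t_P (fun i => ifz (H0.Fi.bit thA i) 0 1) [nat_lit 402, nat_lit 3, nat_lit 163, nat_lit 401, nat_lit 36] thK (H0.Fi.digW (nat_lit 2) (nat_lit 9) (nat_lit 7)) (H0.Fi.digW (nat_lit 2) (nat_lit 9) (nat_lit 7)) (nat_lit 20)) (nat_lit 0) (nat_lit 128) = true := by decide +kernel
theorem th_k_21_0 : allZ (H0.Fi.ncEnt t_P (fun i => ifz (H0.Fi.bit thA i) 0 1) [nat_lit 402, nat_lit 3, nat_lit 163, nat_lit 401, nat_lit 36] thK (H0.Fi.digW (nat_lit 2) (nat_lit 9) (nat_lit 7)) (H0.Fi.digW (nat_lit 2) (nat_lit 9) (nat_lit 7)) (nat_lit 21)) (nat_lit 0) (nat_lit 128) = true := by decide +kernel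
theorem th_k_22_0 : allZ (H0.Fi.ncEnt t_P (fun i => ifz (H0.Fi.bit thA i) 0 1) [nat_lit 402, nat_lit 3, nat_lit 163, nat_lit 401, nat_lit 36] thK (H0.Fi.digW (nat_lit 2) (nat_lit 9) (nat_lit 7)) (H0.Fi.digW (nat_lit 2) (nat_lit 9) (nat_lit 7)) (nat_lit 22)) (nat_lit 0) (nat_lit 128) = true := by decide +kernel
theorem th_k_23_0 : allZ (H0.Fi.ncEnt t_P (fun i => ifz (H0.Fi.bit thA i) 0 1) [nat_lit 402, nat_lit 3, nat_lit 163, nat_lit 401, nat_lit 36] thK (H0.Fi.digW (nat_lit 2) (nat_lit 9) (nat_lit 7)) (H0.Fi.digW (nat_lit 2) (nat_lit 9) (nat_lit 7)) (nat_lit 23)) (nat_lit 0) (nat_lit 128) = true := by decide +kernel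
theorem th_k_24_0 : allZ (H0.Fi.ncEnt t_P (fun i => ifz (H0.Fi.bit thA i) 0 1) [nat_lit 402, nat_lit 3, nat_lit 163, nat_lit 401, nat_lit 36] thK (H0.Fi.digW (nat_lit 2) (nat_lit 9) (nat_lit 7)) (H0.Fi.digW (nat_lit 2) (nat_lit 9) (nat_lit 7)) (nat_lit 24)) (nat_lit 0) (nat_lit 128) = true := by decide +kernel
theorem th_k_25_0 : allZ (H0.Fi.ncEnt t_P (fun i => ifz (H0.Fi.bit thA i) 0 1) [nat_lit 402, nat_lit 3, nat_lit 163, nat_lit 401, nat_lit 36] thK (H0.Fi.digW (nat_lit 2) (nat_lit 9) (nat_lit 7)) (H0.Fi.digW (nat_lit 2) (nat_lit 9) (nat_lit 7)) (nat_lit 25)) (nat_lit 0) (nat_lit 128) = true := by decide +kernel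
theorem th_k_26_0 : allZ (H0.Fi.ncEnt t_P (fun i => ifz (H0.Fi.bit thA i) 0 1) [nat_lit 402, nat_lit 3, nat_lit 163, nat_lit 401, nat_lit 36] thK (H0.Fi.digW (nat_lit 2) (nat_lit 9) (nat_lit 7)) (H0.Fi.digW (nat_lit 2) (nat_lit 9) (nat_lit 7)) (nat_lit 26)) (nat_lit 0) (nat_lit 128) = true := by decide +kernel
theorem th_k_27_0 : allZ (H0.Fi.ncEnt t_P (fun i => ifz (H0.Fi.bit thA i) 0 1) [nat_lit 402, nat_lit 3, nat_lit 163, nat_lit 401, nat_lit 36] thK (H0.Fi.digW (nat_lit 2) (nat_lit 9) (nat_lit 7)) (H0.Fi.digW (nat_lit 2) (nat_lit 9) (nat_lit 7)) (nat_lit 27)) (nat_lit 0) (nat_lit 128) = true := by decide +kernel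
theorem th_k_28_0 : allZ (H0.Fi.ncEnt t_P (fun i => ifz (H0.Fi.bit thA i) 0 1) [nat_lit 402, nat_lit 3, nat_lit 163, nat_lit 401, nat_lit 36] thK (H0.Fi.digW (nat_lit 2) (nat_lit 9) (nat_lit 7)) (H0.Fi.digW (nat_lit 2) (nat_lit 9) (nat_lit 7)) (nat_lit 28)) (nat_lit 0) (nat_lit 128) = true := by decide +kernel
theorem th_k_29_0 : allZ (H0.Fi.ncEnt t_P (fun i => ifz (H0.Fi.bit thA i) 0 1) [nat_lit 402, nat_lit 3, nat_lit 163, nat_lit 401, nat_lit 36] thK (H0.Fi.digW (nat_lit 2) (nat_lit 9) (nat_lit 7)) (H0.Fi.digW (nat_lit 2) (nat_lit 9) (nat_lit 7)) (nat_lit 29)) (nat_lit 0) (nat_lit 128) = true := by decide +kernel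
theorem th_k_30_0 : allZ (H0.Fi.ncEnt t_P (fun i => ifz (H0.Fi.bit thA i) 0 1) [nat_lit 402, nat_lit 3, nat_lit 163, nat_lit 401, nat_lit 36] thK (H0.Fi.digW (nat_lit 2) (nat_lit 9) (nat_lit 7)) (H0.Fi.digW (nat_lit 2) (nat_lit 9) (nat_lit 7)) (nat_lit 30)) (nat_lit 0) (nat_lit 128) = true := by decide +kernel
theorem th_k_31_0 : allZ (H0.Fi.ncEnt t_P (fun i => ifz (H0.Fi.bit thA i) 0 1) [nat_lit 402, nat_lit 3, nat_lit 163, nat_lit 401, nat_lit 36] thK (H0.Fi.digW (nat_lit 2) (nat_lit 9) (nat_lit 7)) (H0.Fi.digW (nat_lit 2) (nat_lit 9) (nat_lit 7)) (nat_lit 31)) (nat_lit 0) (nat_lit 128) = true := by decide +kernel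
theorem th_k_32_0 : allZ (H0.Fi.ncEnt t_P (fun i => ifz (H0.Fi.bit thA i) 0 1) [nat_lit 402, nat_lit 3, nat_lit 163, nat_lit 401, nat_lit 36] thK (H0.Fi.digW (nat_lit 2) (nat_lit 9) (nat_lit 7)) (H0.Fi.digW (nat_lit 2) (nat_lit 9) (nat_lit 7)) (nat_lit 32)) (nat_lit 0) (nat_lit 128) = true := by decide +kernel
theorem th_k_33_0 : allZ (H0.Fi.ncEnt t_P (fun i => ifz (H0.Fi.bit thA i) 0 1) [nat_lit 402, nat_lit 3, nat_lit 163, nat_lit 401, nat_lit 36] thK (H0.Fi.digW (nat_lit 2) (nat_lit 9) (nat_lit 7)) (H0.Fi.digW (nat_lit 2) (nat_lit 9) (nat_lit 7)) (nat_lit 33)) (nat_lit 0) (nat_lit 128) = true := by decide +kernel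
theorem th_k_34_0 : allZ (H0.Fi.ncEnt t_P (fun i => ifz (H0.Fi.bit thA i) 0 1) [nat_lit 402, nat_lit 3, nat_lit 163, nat_lit 401, nat_lit 36] thK (H0.Fi.digW (nat_lit 2) (nat_lit 9) (nat_lit 7)) (H0.Fi.digW (nat_lit 2) (nat_lit 9) (nat_lit 7)) (nat_lit 34)) (nat_lit 0) (nat_lit 128) = true := by decide +kernel
theorem th_k_35_0 : allZ (H0.Fi.ncEnt t_P (fun i => ifz (H0.Fi.bit thA i) 0 1) [nat_lit 402, nat_lit 3, nat_lit 163, nat_lit 401, nat_lit 36] thK (H0.Fi.digW (nat_lit 2) (nat_lit 9) (nat_lit 7)) (H0.Fi.digW (nat_lit 2) (nat_lit 9) (nat_lit 7)) (nat_lit 35)) (nat_lit 0) (nat_lit 128) = true := by decide +kernel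
theorem th_k_36_0 : allZ (H0.Fi.ncEnt t_P (fun i => ifz (H0.Fi.bit thA i) 0 1) [nat_lit 402, nat_lit 3, nat_lit 163, nat_lit 401, nat_lit 36] thK (H0.Fi.digW (nat_lit 2) (nat_lit 9) (nat_lit 7)) (H0.Fi.digW (nat_lit 2) (nat_lit 9) (nat_lit 7)) (nat_lit 36)) (nat_lit 0) (nat_lit 128) = true := by decide +kernel
theorem th_k_37_0 : allZ (H0.Fi.ncEnt t_P (fun i => ifz (H0.Fi.bit thA i) 0 1) [nat_lit 402, nat_lit 3, nat_lit 163, nat_lit 401, nat_lit 36] thK (H0.Fi.digW (nat_lit 2) (nat_lit 9) (nat_lit 7)) (H0.Fi.digW (nat_lit 2) (nat_lit 9) (nat_lit 7)) (nat_lit 37)) (nat_lit 0) (nat_lit 128) = true := by decide +kernel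
theorem th_k_38_0 : allZ (H0.Fi.ncEnt t_P (fun i => ifz (H0.Fi.bit thA i) 0 1) [nat_lit 402, nat_lit 3, nat_lit 163, nat_lit 401, nat_lit 36] thK (H0.Fi.digW (nat_lit 2) (nat_lit 9) (nat_lit 7)) (H0.Fi.digW (nat_lit 2) (nat_lit 9) (nat_lit 7)) (nat_lit 38)) (nat_lit 0) (nat_lit 128) = true := by decide +kernel
theorem th_k_39_0 : allZ (H0.Fi.ncEnt t_P (fun i => ifz (H0.Fi.bit thA i) 0 1) [nat_lit 402, nat_lit 3, nat_lit 163, nat_lit 401, nat_lit 36] thK (H0.Fi.digW (nat_lit 2) (nat_lit 9) (nat_lit 7)) (H0.Fi.digW (nat_lit 2) (nat_lit 9) (nat_lit 7)) (nat_lit 39)) (nat_lit 0) (nat_lit 128) = true := by decide +kernel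
theorem th_k_40_0 : allZ (H0.Fi.ncEnt t_P (fun i => ifz (H0.Fi.bit thA i) 0 1) [nat_lit 402, nat_lit 3, nat_lit 163, nat_lit 401, nat_lit 36] thK (H0.Fi.digW (nat_lit 2) (nat_lit 9) (nat_lit 7)) (H0.Fi.digW (nat_lit 2) (nat_lit 9) (nat_lit 7)) (nat_lit 40)) (nat_lit 0) (nat_lit 128) = true := by decide +kernel
theorem th_k_41_0 : allZ (H0.Fi.ncEnt t_P (fun i => ifz (H0.Fi.bit thA i) 0 1) [nat_lit 402, nat_lit 3, nat_lit 163, nat_lit 401, nat_lit 36] thK (H0.Fi.digW (nat_lit 2) (nat_lit 9) (nat_lit 7)) (H0.Fi.digW (nat_lit 2) (nat_lit 9) (nat_lit 7)) (nat_lit 41)) (nat_lit 0) (nat_lit 128) = true := by decide +kernel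
theorem th_k_42_0 : allZ (H0.Fi.ncEnt t_P (fun i => ifz (H0.Fi.bit thA i) 0 1) [nat_lit 402, nat_lit 3, nat_lit 163, nat_lit 401, nat_lit 36] thK (H0.Fi.digW (nat_lit 2) (nat_lit 9) (nat_lit 7)) (H0.Fi.digW (nat_lit 2) (nat_lit 9) (nat_lit 7)) (nat_lit 42)) (nat_lit 0) (nat_lit 128) = true := by decide +kernel
theorem th_k_43_0 : allZ (H0.Fi.ncEnt t_P (fun i => ifz (H0.Fi.bit thA i) 0 1) [nat_lit 402, nat_lit 3, nat_lit 163, nat_lit 401, nat_lit 36] thK (H0.Fi.digW (nat_lit 2) (nat_lit 9) (nat_lit 7)) (H0.Fi.digW (nat_lit 2) (nat_lit 9) (nat_lit 7)) (nat_lit 43)) (nat_lit 0) (nat_lit 128) = true := by decide +kernel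
theorem th_k_44_0 : allZ (H0.Fi.ncEnt t_P (fun i => ifz (H0.Fi.bit thA i) 0 1) [nat_lit 402, nat_lit 3, nat_lit 163, nat_lit 401, nat_lit 36] thK (H0.Fi.digW (nat_lit 2) (nat_lit 9) (nat_lit 7)) (H0.Fi.digW (nat_lit 2) (nat_lit 9) (nat_lit 7)) (nat_lit 44)) (nat_lit 0) (nat_lit 128) = true := by decide +kernel
theorem th_k_45_0 : allZ (H0.Fi.ncEnt t_P (fun i => ifz (H0.Fi.bit thA i) 0 1) [nat_lit 402, nat_lit 3, nat_lit 163, nat_lit 401, nat_lit 36] thK (H0.Fi.digW (nat_lit 2) (nat_lit 9) (nat_lit 7)) (H0.Fi.digW (nat_lit 2) (nat_lit 9) (nat_lit 7)) (nat_lit 45)) (nat_lit 0) (nat_lit 128) = true := by decide +kernel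
theorem th_k_46_0 : allZ (H0.Fi.ncEnt t_P (fun i => ifz (H0.Fi.bit thA i) 0 1) [nat_lit 402, nat_lit 3, nat_lit 163, nat_lit 401, nat_lit 36] thK (H0.Fi.digW (nat_lit 2) (nat_lit 9) (nat_lit 7)) (H0.Fi.digW (nat_lit 2) (nat_lit 9) (nat_lit 7)) (nat_lit 46)) (nat_lit 0) (nat_lit 128) = true := by decide +kernel
theorem th_k_47_0 : allZ (H0.Fi.ncEnt t_P (fun i => ifz (H0.Fi.bit thA i) 0 1) [nat_lit 402, nat_lit 3, nat_lit 163, nat_lit 401, nat_lit 36] thK (H0.Fi.digW (nat_lit 2) (nat_lit 9) (nat_lit 7)) (H0.Fi.digW (nat_lit 2) (nat_lit 9) (nat_lit 7)) (nat_lit 47)) (nat_lit 0) (nat_lit 128) = true := by decide +kernel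
theorem th_k_48_0 : allZ (H0.Fi.ncEnt t_P (fun i => ifz (H0.Fi.bit thA i) 0 1) [nat_lit 402, nat_lit 3, nat_lit 163, nat_lit 401, nat_lit 36] thK (H0.Fi.digW (nat_lit 2) (nat_lit 9) (nat_lit 7)) (H0.Fi.digW (nat_lit 2) (nat_lit 9) (nat_lit 7)) (nat_lit 48)) (nat_lit 0) (nat_lit 128) = true := by decide +kernel
theorem th_k_49_0 : allZ (H0.Fi.ncEnt t_P (fun i => ifz (H0.Fi.bit thA i) 0 1) [nat_lit 402, nat_lit 3, nat_lit 163, nat_lit 401, nat_lit 36] thK (H0.Fi.digW (nat_lit 2) (nat_lit 9) (nat_lit 7)) (H0.Fi.digW (nat_lit 2) (nat_lit 9) (nat_lit 7)) (nat_lit 49)) (nat_lit 0) (nat_lit 128) = true := by decide +kernel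
theorem th_k_50_0 : allZ (H0.Fi.ncEnt t_P (fun i => ifz (H0.Fi.bit thA i) 0 1) [nat_lit 402, nat_lit 3, nat_lit 163, nat_lit 401, nat_lit 36] thK (H0.Fi.digW (nat_lit 2) (nat_lit 9) (nat_lit 7)) (H0.Fi.digW (nat_lit 2) (nat_lit 9) (nat_lit 7)) (nat_lit 50)) (nat_lit 0) (nat_lit 128) = true := by decide +kernel
theorem th_k_51_0 : allZ (H0.Fi.ncEnt t_P (fun i => ifz (H0.Fi.bit thA i) 0 1) [nat_lit 402, nat_lit 3, nat_lit 163, nat_lit 401, nat_lit 36] thK (H0.Fi.digW (nat_lit 2) (nat_lit 9) (nat_lit 7)) (H0.Fi.digW (nat_lit 2) (nat_lit 9) (nat_lit 7)) (nat_lit 51)) (nat_lit 0) (nat_lit 128) = true := by decide +kernel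
theorem th_k_52_0 : allZ (H0.Fi.ncEnt t_P (fun i => ifz (H0.Fi.bit thA i) 0 1) [nat_lit 402, nat_lit 3, nat_lit 163, nat_lit 401, nat_lit 36] thK (H0.Fi.digW (nat_lit 2) (nat_lit 9) (nat_lit 7)) (H0.Fi.digW (nat_lit 2) (nat_lit 9) (nat_lit 7)) (nat_lit 52)) (nat_lit 0) (nat_lit 128) = true := by decide +kernel
theorem th_k_53_0 : allZ (H0.Fi.ncEnt t_P (fun i => ifz (H0.Fi.bit thA i) 0 1) [nat_lit 402, nat_lit 3, nat_lit 163, nat_lit 401, nat_lit 36] thK (H0.Fi.digW (nat_lit 2) (nat_lit 9) (nat_lit 7)) (H0.Fi.digW (nat_lit 2) (nat_lit 9) (nat_lit 7)) (nat_lit 53)) (nat_lit 0) (nat_lit 128) = true := by decide +kernel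
theorem th_k_54_0 : allZ (H0.Fi.ncEnt t_P (fun i => ifz (H0.Fi.bit thA i) 0 1) [nat_lit 402, nat_lit 3, nat_lit 163, nat_lit 401, nat_lit 36] thK (H0.Fi.digW (nat_lit 2) (nat_lit 9) (nat_lit 7)) (H0.Fi.digW (nat_lit 2) (nat_lit 9) (nat_lit 7)) (nat_lit 54)) (nat_lit 0) (nat_lit 128) = true := by decide +kernel
theorem th_k_55_0 : allZ (H0.Fi.ncEnt t_P (fun i => ifz (H0.Fi.bit thA i) 0 1) [nat_lit 402, nat_lit 3, nat_lit 163, nat_lit 401, nat_lit 36] thK (H0.Fi.digW (nat_lit 2) (nat_lit 9) (nat_lit 7)) (H0.Fi.digW (nat_lit 2) (nat_lit 9) (nat_lit 7)) (nat_lit 55)) (nat_lit 0) (nat_lit 128) = true := by decide +kernel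
theorem th_k_56_0 : allZ (H0.Fi.ncEnt t_P (fun i => ifz (H0.Fi.bit thA i) 0 1) [nat_lit 402, nat_lit 3, nat_lit 163, nat_lit 401, nat_lit 36] thK (H0.Fi.digW (nat_lit 2) (nat_lit 9) (nat_lit 7)) (H0.Fi.digW (nat_lit 2) (nat_lit 9) (nat_lit 7)) (nat_lit 56)) (nat_lit 0) (nat_lit 128) = true := by decide +kernel
theorem th_k_57_0 : allZ (H0.Fi.ncEnt t_P (fun i => ifz (H0.Fi.bit thA i) 0 1) [nat_lit 402, nat_lit 3, nat_lit 163, nat_lit 401, nat_lit 36] thK (H0.Fi.digW (nat_lit 2) (nat_lit 9) (nat_lit 7)) (H0.Fi.digW (nat_lit 2) (nat_lit 9) (nat_lit 7)) (nat_lit 57)) (nat_lit 0) (nat_lit 128) = true := by decide +kernel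
theorem th_k_58_0 : allZ (H0.Fi.ncEnt t_P (fun i => ifz (H0.Fi.bit thA i) 0 1) [nat_lit 402, nat_lit 3, nat_lit 163, nat_lit 401, nat_lit 36] thK (H0.Fi.digW (nat_lit 2) (nat_lit 9) (nat_lit 7)) (H0.Fi.digW (nat_lit 2) (nat_lit 9) (nat_lit 7)) (nat_lit 58)) (nat_lit 0) (nat_lit 128) = true := by decide +kernel
theorem th_k_59_0 : allZ (H0.Fi.ncEnt t_P (fun i => ifz (H0.Fi.bit thA i) 0 1) [nat_lit 402, nat_lit 3, nat_lit 163, nat_lit 401, nat_lit 36] thK (H0.Fi.digW (nat_lit 2) (nat_lit 9) (nat_lit 7)) (H0.Fi.digW (nat_lit 2) (nat_lit 9) (nat_lit 7)) (nat_lit 59)) (nat_lit 0) (nat_lit 128) = true := by decide +kernel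
theorem th_k_60_0 : allZ (H0.Fi.ncEnt t_P (fun i => ifz (H0.Fi.bit thA i) 0 1) [nat_lit 402, nat_lit 3, nat_lit 163, nat_lit 401, nat_lit 36] thK (H0.Fi.digW (nat_lit 2) (nat_lit 9) (nat_lit 7)) (H0.Fi.digW (nat_lit 2) (nat_lit 9) (nat_lit 7)) (nat_lit 60)) (nat_lit 0) (nat_lit 128) = true := by decide +kernel
theorem th_k_61_0 : allZ (H0.Fi.ncEnt t_P (fun i => ifz (H0.Fi.bit thA i) 0 1) [nat_lit 402, nat_lit 3, nat_lit 163, nat_lit 401, nat_lit 36] thK (H0.Fi.digW (nat_lit 2) (nat_lit 9) (nat_lit 7)) (H0.Fi.digW (nat_lit 2) (nat_lit 9) (nat_lit 7)) (nat_lit 61)) (nat_lit 0) (nat_lit 128) = true := by decide +kernel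
theorem th_k_62_0 : allZ (H0.Fi.ncEnt t_P (fun i => ifz (H0.Fi.bit thA i) 0 1) [nat_lit 402, nat_lit 3, nat_lit 163, nat_lit 401, nat_lit 36] thK (H0.Fi.digW (nat_lit 2) (nat_lit 9) (nat_lit 7)) (H0.Fi.digW (nat_lit 2) (nat_lit 9) (nat_lit 7)) (nat_lit 62)) (nat_lit 0) (nat_lit 128) = true := by decide +kernel
theorem th_k_63_0 : allZ (H0.Fi.ncEnt t_P (fun i => ifz (H0.Fi.bit thA i) 0 1) [nat_lit 402, nat_lit 3, nat_lit 163, nat_lit 401, nat_lit 36] thK (H0.Fi.digW (nat_lit 2) (nat_lit 9) (nat_lit 7)) (H0.Fi.digW (nat_lit 2) (nat_lit 9) (nat_lit 7)) (nat_lit 63)) (nat_lit 0) (nat_lit 128) = true := by decide +kernel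
theorem th_k_64_0 : allZ (H0.Fi.ncEnt t_P (fun i => ifz (H0.Fi.bit thA i) 0 1) [nat_lit 402, nat_lit 3, nat_lit 163, nat_lit 401, nat_lit 36] thK (H0.Fi.digW (nat_lit 2) (nat_lit 9) (nat_lit 7)) (H0.Fi.digW (nat_lit 2) (nat_lit 9) (nat_lit 7)) (nat_lit 64)) (nat_lit 0) (nat_lit 128) = true := by decide +kernel
theorem th_k_65_0 : allZ (H0.Fi.ncEnt t_P (fun i => ifz (H0.Fi.bit thA i) 0 1) [nat_lit 402, nat_lit 3, nat_lit 163, nat_lit 401, nat_lit 36] thK (H0.Fi.digW (nat_lit 2) (nat_lit 9) (nat_lit 7)) (H0.Fi.digW (nat_lit 2) (nat_lit 9) (nat_lit 7)) (nat_lit 65)) (nat_lit 0) (nat_lit 128) = true := by decide +kernel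
theorem th_k_66_0 : allZ (H0.Fi.ncEnt t_P (fun i => ifz (H0.Fi.bit thA i) 0 1) [nat_lit 402, nat_lit 3, nat_lit 163, nat_lit 401, nat_lit 36] thK (H0.Fi.digW (nat_lit 2) (nat_lit 9) (nat_lit 7)) (H0.Fi.digW (nat_lit 2) (nat_lit 9) (nat_lit 7)) (nat_lit 66)) (nat_lit 0) (nat_lit 128) = true := by decide +kernel
theorem th_k_67_0 : allZ (H0.Fi.ncEnt t_P (fun i => ifz (H0.Fi.bit thA i) 0 1) [nat_lit 402, nat_lit 3, nat_lit 163, nat_lit 401, nat_lit 36] thK (H0.Fi.digW (nat_lit 2) (nat_lit 9) (nat_lit 7)) (H0.Fi.digW (nat_lit 2) (nat_lit 9) (nat_lit 7)) (nat_lit 67)) (nat_lit 0) (nat_lit 128) = true := by decide +kernel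
theorem th_k_68_0 : allZ (H0.Fi.ncEnt t_P (fun i => ifz (H0.Fi.bit thA i) 0 1) [nat_lit 402, nat_lit 3, nat_lit 163, nat_lit 401, nat_lit 36] thK (H0.Fi.digW (nat_lit 2) (nat_lit 9) (nat_lit 7)) (H0.Fi.digW (nat_lit 2) (nat_lit 9) (nat_lit 7)) (nat_lit 68)) (nat_lit 0) (nat_lit 128) = true := by decide +kernel
theorem th_k_69_0 : allZ (H0.Fi.ncEnt t_P (fun i => ifz (H0.Fi.bit thA i) 0 1) [nat_lit 402, nat_lit 3, nat_lit 163, nat_lit 401, nat_lit 36] thK (H0.Fi.digW (nat_lit 2) (nat_lit 9) (nat_lit 7)) (H0.Fi.digW (nat_lit 2) (nat_lit 9) (nat_lit 7)) (nat_lit 69)) (nat_lit 0) (nat_lit 128) = true := by decide +kernel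
theorem th_k_70_0 : allZ (H0.Fi.ncEnt t_P (fun i => ifz (H0.Fi.bit thA i) 0 1) [nat_lit 402, nat_lit 3, nat_lit 163, nat_lit 401, nat_lit 36] thK (H0.Fi.digW (nat_lit 2) (nat_lit 9) (nat_lit 7)) (H0.Fi.digW (nat_lit 2) (nat_lit 9) (nat_lit 7)) (nat_lit 70)) (nat_lit 0) (nat_lit 128) = true := by decide +kernel
theorem th_k_71_0 : allZ (H0.Fi.ncEnt t_P (fun i => ifz (H0.Fi.bit thA i) 0 1) [nat_lit 402, nat_lit 3, nat_lit 163, nat_lit 401, nat_lit 36] thK (H0.Fi.digW (nat_lit 2) (nat_lit 9) (nat_lit 7)) (H0.Fi.digW (nat_lit 2) (nat_lit 9) (nat_lit 7)) (nat_lit 71)) (nat_lit 0) (nat_lit 128) = true := by decide +kernel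
theorem th_k_72_0 : allZ (H0.Fi.ncEnt t_P (fun i => ifz (H0.Fi.bit thA i) 0 1) [nat_lit 402, nat_lit 3, nat_lit 163, nat_lit 401, nat_lit 36] thK (H0.Fi.digW (nat_lit 2) (nat_lit 9) (nat_lit 7)) (H0.Fi.digW (nat_lit 2) (nat_lit 9) (nat_lit 7)) (nat_lit 72)) (nat_lit 0) (nat_lit 128) = true := by decide +kernel
theorem th_k_73_0 : allZ (H0.Fi.ncEnt t_P (fun i => ifz (H0.Fi.bit thA i) 0 1) [nat_lit 402, nat_lit 3, nat_lit 163, nat_lit 401, nat_lit 36] thK (H0.Fi.digW (nat_lit 2) (nat_lit 9) (nat_lit 7)) (H0.Fi.digW (nat_lit 2) (nat_lit 9) (nat_lit 7)) (nat_lit 73)) (nat_lit 0) (nat_lit 128) = true := by decide +kernel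
theorem th_k_74_0 : allZ (H0.Fi.ncEnt t_P (fun i => ifz (H0.Fi.bit thA i) 0 1) [nat_lit 402, nat_lit 3, nat_lit 163, nat_lit 401, nat_lit 36] thK (H0.Fi.digW (nat_lit 2) (nat_lit 9) (nat_lit 7)) (H0.Fi.digW (nat_lit 2) (nat_lit 9) (nat_lit 7)) (nat_lit 74)) (nat_lit 0) (nat_lit 128) = true := by decide +kernel
theorem th_k_75_0 : allZ (H0.Fi.ncEnt t_P (fun i => ifz (H0.Fi.bit thA i) 0 1) [nat_lit 402, nat_lit 3, nat_lit 163, nat_lit 401, nat_lit 36] thK (H0.Fi.digW (nat_lit 2) (nat_lit 9) (nat_lit 7)) (H0.Fi.digW (nat_lit 2) (nat_lit 9) (nat_lit 7)) (nat_lit 75)) (nat_lit 0) (nat_lit 128) = true := by decide +kernel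
theorem th_k_76_0 : allZ (H0.Fi.ncEnt t_P (fun i => ifz (H0.Fi.bit thA i) 0 1) [nat_lit 402, nat_lit 3, nat_lit 163, nat_lit 401, nat_lit 36] thK (H0.Fi.digW (nat_lit 2) (nat_lit 9) (nat_lit 7)) (H0.Fi.digW (nat_lit 2) (nat_lit 9) (nat_lit 7)) (nat_lit 76)) (nat_lit 0) (nat_lit 128) = true := by decide +kernel
theorem th_k_77_0 : allZ (H0.Fi.ncEnt t_P (fun i => ifz (H0.Fi.bit thA i) 0 1) [nat_lit 402, nat_lit 3, nat_lit 163, nat_lit 401, nat_lit 36] thK (H0.Fi.digW (nat_lit 2) (nat_lit 9) (nat_lit 7)) (H0.Fi.digW (nat_lit 2) (nat_lit 9) (nat_lit 7)) (nat_lit 77)) (nat_lit 0) (nat_lit 128) = true := by decide +kernel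
theorem th_k_78_0 : allZ (H0.Fi.ncEnt t_P (fun i => ifz (H0.Fi.bit thA i) 0 1) [nat_lit 402, nat_lit 3, nat_lit 163, nat_lit 401, nat_lit 36] thK (H0.Fi.digW (nat_lit 2) (nat_lit 9) (nat_lit 7)) (H0.Fi.digW (nat_lit 2) (nat_lit 9) (nat_lit 7)) (nat_lit 78)) (nat_lit 0) (nat_lit 128) = true := by decide +kernel
theorem th_k_79_0 : allZ (H0.Fi.ncEnt t_P (fun i => ifz (H0.Fi.bit thA i) 0 1) [nat_lit 402, nat_lit 3, nat_lit 163, nat_lit 401, nat_lit 36] thK (H0.Fi.digW (nat_lit 2) (nat_lit 9) (nat_lit 7)) (H0.Fi.digW (nat_lit 2) (nat_lit 9) (nat_lit 7)) (nat_lit 79)) (nat_lit 0) (nat_lit 128) = true := by decide +kernel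
theorem th_k_80_0 : allZ (H0.Fi.ncEnt t_P (fun i => ifz (H0.Fi.bit thA i) 0 1) [nat_lit 402, nat_lit 3, nat_lit 163, nat_lit 401, nat_lit 36] thK (H0.Fi.digW (nat_lit 2) (nat_lit 9) (nat_lit 7)) (H0.Fi.digW (nat_lit 2) (nat_lit 9) (nat_lit 7)) (nat_lit 80)) (nat_lit 0) (nat_lit 128) = true := by decide +kernel
theorem th_k_81_0 : allZ (H0.Fi.ncEnt t_P (fun i => ifz (H0.Fi.bit thA i) 0 1) [nat_lit 402, nat_lit 3, nat_lit 163, nat_lit 401, nat_lit 36] thK (H0.Fi.digW (nat_lit 2) (nat_lit 9) (nat_lit 7)) (H0.Fi.digW (nat_lit 2) (nat_lit 9) (nat_lit 7)) (nat_lit 81)) (nat_lit 0) (nat_lit 128) = true := by decide +kernel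
theorem th_k_82_0 : allZ (H0.Fi.ncEnt t_P (fun i => ifz (H0.Fi.bit thA i) 0 1) [nat_lit 402, nat_lit 3, nat_lit 163, nat_lit 401, nat_lit 36] thK (H0.Fi.digW (nat_lit 2) (nat_lit 9) (nat_lit 7)) (H0.Fi.digW (nat_lit 2) (nat_lit 9) (nat_lit 7)) (nat_lit 82)) (nat_lit 0) (nat_lit 128) = true := by decide +kernel
theorem th_k_83_0 : allZ (H0.Fi.ncEnt t_P (fun i => ifz (H0.Fi.bit thA i) 0 1) [nat_lit 402, nat_lit 3, nat_lit 163, nat_lit 401, nat_lit 36] thK (H0.Fi.digW (nat_lit 2) (nat_lit 9) (nat_lit 7)) (H0.Fi.digW (nat_lit 2) (nat_lit 9) (nat_lit 7)) (nat_lit 83)) (nat_lit 0) (nat_lit 128) = true := by decide +kernel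
theorem th_k_84_0 : allZ (H0.Fi.ncEnt t_P (fun i => ifz (H0.Fi.bit thA i) 0 1) [nat_lit 402, nat_lit 3, nat_lit 163, nat_lit 401, nat_lit 36] thK (H0.Fi.digW (nat_lit 2) (nat_lit 9) (nat_lit 7)) (H0.Fi.digW (nat_lit 2) (nat_lit 9) (nat_lit 7)) (nat_lit 84)) (nat_lit 0) (nat_lit 128) = true := by decide +kernel
theorem th_k_85_0 : allZ (H0.Fi.ncEnt t_P (fun i => ifz (H0.Fi.bit thA i) 0 1) [nat_lit 402, nat_lit 3, nat_lit 163, nat_lit 401, nat_lit 36] thK (H0.Fi.digW (nat_lit 2) (nat_lit 9) (nat_lit 7)) (H0.Fi.digW (nat_lit 2) (nat_lit 9) (nat_lit 7)) (nat_lit 85)) (nat_lit 0) (nat_lit 128) = true := by decide +kernel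
theorem th_k_86_0 : allZ (H0.Fi.ncEnt t_P (fun i => ifz (H0.Fi.bit thA i) 0 1) [nat_lit 402, nat_lit 3, nat_lit 163, nat_lit 401, nat_lit 36] thK (H0.Fi.digW (nat_lit 2) (nat_lit 9) (nat_lit 7)) (H0.Fi.digW (nat_lit 2) (nat_lit 9) (nat_lit 7)) (nat_lit 86)) (nat_lit 0) (nat_lit 128) = true := by decide +kernel
theorem th_k_87_0 : allZ (H0.Fi.ncEnt t_P (fun i => ifz (H0.Fi.bit thA i) 0 1) [nat_lit 402, nat_lit 3, nat_lit 163, nat_lit 401, nat_lit 36] thK (H0.Fi.digW (nat_lit 2) (nat_lit 9) (nat_lit 7)) (H0.Fi.digW (nat_lit 2) (nat_lit 9) (nat_lit 7)) (nat_lit 87)) (nat_lit 0) (nat_lit 128) = true := by decide +kernel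
theorem th_k_88_0 : allZ (H0.Fi.ncEnt t_P (fun i => ifz (H0.Fi.bit thA i) 0 1) [nat_lit 402, nat_lit 3, nat_lit 163, nat_lit 401, nat_lit 36] thK (H0.Fi.digW (nat_lit 2) (nat_lit 9) (nat_lit 7)) (H0.Fi.digW (nat_lit 2) (nat_lit 9) (nat_lit 7)) (nat_lit 88)) (nat_lit 0) (nat_lit 128) = true := by decide +kernel
theorem th_k_89_0 : allZ (H0.Fi.ncEnt t_P (fun i => ifz (H0.Fi.bit thA i) 0 1) [nat_lit 402, nat_lit 3, nat_lit 163, nat_lit 401, nat_lit 36] thK (H0.Fi.digW (nat_lit 2) (nat_lit 9) (nat_lit 7)) (H0.Fi.digW (nat_lit 2) (nat_lit 9) (nat_lit 7)) (nat_lit 89)) (nat_lit 0) (nat_lit 128) = true := by decide +kernel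
theorem th_k_90_0 : allZ (H0.Fi.ncEnt t_P (fun i => ifz (H0.Fi.bit thA i) 0 1) [nat_lit 402, nat_lit 3, nat_lit 163, nat_lit 401, nat_lit 36] thK (H0.Fi.digW (nat_lit 2) (nat_lit 9) (nat_lit 7)) (H0.Fi.digW (nat_lit 2) (nat_lit 9) (nat_lit 7)) (nat_lit 90)) (nat_lit 0) (nat_lit 128) = true := by decide +kernel
theorem th_k_91_0 : allZ (H0.Fi.ncEnt t_P (fun i => ifz (H0.Fi.bit thA i) 0 1) [nat_lit 402, nat_lit 3, nat_lit 163, nat_lit 401, nat_lit 36] thK (H0.Fi.digW (nat_lit 2) (nat_lit 9) (nat_lit 7)) (H0.Fi.digW (nat_lit 2) (nat_lit 9) (nat_lit 7)) (nat_lit 91)) (nat_lit 0) (nat_lit 128) = true := by decide +kernel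
theorem th_k_92_0 : allZ (H0.Fi.ncEnt t_P (fun i => ifz (H0.Fi.bit thA i) 0 1) [nat_lit 402, nat_lit 3, nat_lit 163, nat_lit 401, nat_lit 36] thK (H0.Fi.digW (nat_lit 2) (nat_lit 9) (nat_lit 7)) (H0.Fi.digW (nat_lit 2) (nat_lit 9) (nat_lit 7)) (nat_lit 92)) (nat_lit 0) (nat_lit 128) = true := by decide +kernel
theorem th_k_93_0 : allZ (H0.Fi.ncEnt t_P (fun i => ifz (H0.Fi.bit thA i) 0 1) [nat_lit 402, nat_lit 3, nat_lit 163, nat_lit 401, nat_lit 36] thK (H0.Fi.digW (nat_lit 2) (nat_lit 9) (nat_lit 7)) (H0.Fi.digW (nat_lit 2) (nat_lit 9) (nat_lit 7)) (nat_lit 93)) (nat_lit 0) (nat_lit 128) = true := by decide +kernel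
theorem th_k_94_0 : allZ (H0.Fi.ncEnt t_P (fun i => ifz (H0.Fi.bit thA i) 0 1) [nat_lit 402, nat_lit 3, nat_lit 163, nat_lit 401, nat_lit 36] thK (H0.Fi.digW (nat_lit 2) (nat_lit 9) (nat_lit 7)) (H0.Fi.digW (nat_lit 2) (nat_lit 9) (nat_lit 7)) (nat_lit 94)) (nat_lit 0) (nat_lit 128) = true := by decide +kernel
theorem th_k_95_0 : allZ (H0.Fi.ncEnt t_P (fun i => ifz (H0.Fi.bit thA i) 0 1) [nat_lit 402, nat_lit 3, nat_lit 163, nat_lit 401, nat_lit 36] thK (H0.Fi.digW (nat_lit 2) (nat_lit 9) (nat_lit 7)) (H0.Fi.digW (nat_lit 2) (nat_lit 9) (nat_lit 7)) (nat_lit 95)) (nat_lit 0) (nat_lit 128) = true := by decide +kernel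
theorem th_k_96_0 : allZ (H0.Fi.ncEnt t_P (fun i => ifz (H0.Fi.bit thA i) 0 1) [nat_lit 402, nat_lit 3, nat_lit 163, nat_lit 401, nat_lit 36] thK (H0.Fi.digW (nat_lit 2) (nat_lit 9) (nat_lit 7)) (H0.Fi.digW (nat_lit 2) (nat_lit 9) (nat_lit 7)) (nat_lit 96)) (nat_lit 0) (nat_lit 128) = true := by decide +kernel
theorem th_k_97_0 : allZ (H0.Fi.ncEnt t_P (fun i => ifz (H0.Fi.bit thA i) 0 1) [nat_lit 402, nat_lit 3, nat_lit 163, nat_lit 401, nat_lit 36] thK (H0.Fi.digW (nat_lit 2) (nat_lit 9) (nat_lit 7)) (H0.Fi.digW (nat_lit 2) (nat_lit 9) (nat_lit 7)) (nat_lit 97)) (nat_lit 0) (nat_lit 128) = true := by decide +kernel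
theorem th_k_98_0 : allZ (H0.Fi.ncEnt t_P (fun i => ifz (H0.Fi.bit thA i) 0 1) [nat_lit 402, nat_lit 3, nat_lit 163, nat_lit 401, nat_lit 36] thK (H0.Fi.digW (nat_lit 2) (nat_lit 9) (nat_lit 7)) (H0.Fi.digW (nat_lit 2) (nat_lit 9) (nat_lit 7)) (nat_lit 98)) (nat_lit 0) (nat_lit 128) = true := by decide +kernel
theorem th_k_99_0 : allZ (H0.Fi.ncEnt t_P (fun i => ifz (H0.Fi.bit thA i) 0 1) [nat_lit 402, nat_lit 3, nat_lit 163, nat_lit 401, nat_lit 36] thK (H0.Fi.digW (nat_lit 2) (nat_lit 9) (nat_lit 7)) (H0.Fi.digW (nat_lit 2) (nat_lit 9) (nat_lit 7)) (nat_lit 99)) (nat_lit 0) (nat_lit 128) = true := by decide +kernel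
theorem th_k_100_0 : allZ (H0.Fi.ncEnt t_P (fun i => ifz (H0.Fi.bit thA i) 0 1) [nat_lit 402, nat_lit 3, nat_lit 163, nat_lit 401, nat_lit 36] thK (H0.Fi.digW (nat_lit 2) (nat_lit 9) (nat_lit 7)) (H0.Fi.digW (nat_lit 2) (nat_lit 9) (nat_lit 7)) (nat_lit 100)) (nat_lit 0) (nat_lit 128) = true := by decide +kernel
theorem th_k_101_0 : allZ (H0.Fi.ncEnt t_P (fun i => ifz (H0.Fi.bit thA i) 0 1) [nat_lit 402, nat_lit 3, nat_lit 163, nat_lit 401, nat_lit 36] thK (H0.Fi.digW (nat_lit 2) (nat_lit 9) (nat_lit 7)) (H0.Fi.digW (nat_lit 2) (nat_lit 9) (nat_lit 7)) (nat_lit 101)) (nat_lit 0) (nat_lit 128) = true := by decide +kernel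
theorem th_k_102_0 : allZ (H0.Fi.ncEnt t_P (fun i => ifz (H0.Fi.bit thA i) 0 1) [nat_lit 402, nat_lit 3, nat_lit 163, nat_lit 401, nat_lit 36] thK (H0.Fi.digW (nat_lit 2) (nat_lit 9) (nat_lit 7)) (H0.Fi.digW (nat_lit 2) (nat_lit 9) (nat_lit 7)) (nat_lit 102)) (nat_lit 0) (nat_lit 128) = true := by decide +kernel
theorem th_k_103_0 : allZ (H0.Fi.ncEnt t_P (fun i => ifz (H0.Fi.bit thA i) 0 1) [nat_lit 402, nat_lit 3, nat_lit 163, nat_lit 401, nat_lit 36] thK (H0.Fi.digW (nat_lit 2) (nat_lit 9) (nat_lit 7)) (H0.Fi.digW (nat_lit 2) (nat_lit 9) (nat_lit 7)) (nat_lit 103)) (nat_lit 0) (nat_lit 128) = true := by decide +kernel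
theorem th_k_104_0 : allZ (H0.Fi.ncEnt t_P (fun i => ifz (H0.Fi.bit thA i) 0 1) [nat_lit 402, nat_lit 3, nat_lit 163, nat_lit 401, nat_lit 36] thK (H0.Fi.digW (nat_lit 2) (nat_lit 9) (nat_lit 7)) (H0.Fi.digW (nat_lit 2) (nat_lit 9) (nat_lit 7)) (nat_lit 104)) (nat_lit 0) (nat_lit 128) = true := by decide +kernel
theorem th_k_105_0 : allZ (H0.Fi.ncEnt t_P (fun i => ifz (H0.Fi.bit thA i) 0 1) [nat_lit 402, nat_lit 3, nat_lit 163, nat_lit 401, nat_lit 36] thK (H0.Fi.digW (nat_lit 2) (nat_lit 9) (nat_lit 7)) (H0.Fi.digW (nat_lit 2) (nat_lit 9) (nat_lit 7)) (nat_lit 105)) (nat_lit 0) (nat_lit 128) = true := by decide +kernel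
theorem th_k_106_0 : allZ (H0.Fi.ncEnt t_P (fun i => ifz (H0.Fi.bit thA i) 0 1) [nat_lit 402, nat_lit 3, nat_lit 163, nat_lit 401, nat_lit 36] thK (H0.Fi.digW (nat_lit 2) (nat_lit 9) (nat_lit 7)) (H0.Fi.digW (nat_lit 2) (nat_lit 9) (nat_lit 7)) (nat_lit 106)) (nat_lit 0) (nat_lit 128) = true := by decide +kernel
theorem th_k_107_0 : allZ (H0.Fi.ncEnt t_P (fun i => ifz (H0.Fi.bit thA i) 0 1) [nat_lit 402, nat_lit 3, nat_lit 163, nat_lit 401, nat_lit 36] thK (H0.Fi.digW (nat_lit 2) (nat_lit 9) (nat_lit 7)) (H0.Fi.digW (nat_lit 2) (nat_lit 9) (nat_lit 7)) (nat_lit 107)) (nat_lit 0) (nat_lit 128) = true := by decide +kernel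
theorem th_k_108_0 : allZ (H0.Fi.ncEnt t_P (fun i => ifz (H0.Fi.bit thA i) 0 1) [nat_lit 402, nat_lit 3, nat_lit 163, nat_lit 401, nat_lit 36] thK (H0.Fi.digW (nat_lit 2) (nat_lit 9) (nat_lit 7)) (H0.Fi.digW (nat_lit 2) (nat_lit 9) (nat_lit 7)) (nat_lit 108)) (nat_lit 0) (nat_lit 128) = true := by decide +kernel
theorem th_k_109_0 : allZ (H0.Fi.ncEnt t_P (fun i => ifz (H0.Fi.bit thA i) 0 1) [nat_lit 402, nat_lit 3, nat_lit 163, nat_lit 401, nat_lit 36] thK (H0.Fi.digW (nat_lit 2) (nat_lit 9) (nat_lit 7)) (H0.Fi.digW (nat_lit 2) (nat_lit 9) (nat_lit 7)) (nat_lit 109)) (nat_lit 0) (nat_lit 128) = true := by decide +kernel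
theorem th_k_110_0 : allZ (H0.Fi.ncEnt t_P (fun i => ifz (H0.Fi.bit thA i) 0 1) [nat_lit 402, nat_lit 3, nat_lit 163, nat_lit 401, nat_lit 36] thK (H0.Fi.digW (nat_lit 2) (nat_lit 9) (nat_lit 7)) (H0.Fi.digW (nat_lit 2) (nat_lit 9) (nat_lit 7)) (nat_lit 110)) (nat_lit 0) (nat_lit 128) = true := by decide +kernel

end H18.TE.V
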