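import Cfsg.Agent.H18.TEg.V.D0

/-! Generated by tools/h0/tr.py. -/

set_option maxRecDepth 100000
set_option maxHeartbeats 0

namespace H18.TE.V
open H16 H0.TR
open scoped commutatorElement

theorem th_k_111_0 : allZ (H0.Fi.ncEnt t_P (fun i => ifz (H0.Fi.bit thA i) 0 1) [nat_lit 402, nat_lit 3, nat_lit 163, nat_lit 401, nat_lit 36] thK (H0.Fi.digW (nat_lit 2) (nat_lit 9) (nat_lit 7)) (H0.Fi.digW (nat_lit 2) (nat_lit 9) (nat_lit 7)) (nat_lit 111)) (nat_lit 0) (nat_lit 128) = true := by decide +kernel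
theorem th_k_112_0 : allZ (H0.Fi.ncEnt t_P (fun i => ifz (H0.Fi.bit thA i) 0 1) [nat_lit 402, nat_lit 3, nat_lit 163, nat_lit 401, nat_lit 36] thK (H0.Fi.digW (nat_lit 2) (nat_lit 9) (nat_lit 7)) (H0.Fi.digW (nat_lit 2) (nat_lit 9) (nat_lit 7)) (nat_lit 112)) (nat_lit 0) (nat_lit 128) = true := by decide +kernel
theorem th_k_113_0 : allZ (H0.Fi.ncEnt t_P (fun i => ifz (H0.Fi.bit thA i) 0 1) [nat_lit 402, nat_lit 3, nat_lit 163, nat_lit 401, nat_lit 36] thK (H0.Fi.digW (nat_lit 2) (nat_lit 9) (nat_lit 7)) (H0.Fi.digW (nat_lit 2) (nat_lit 9) (nat_lit 7)) (nat_lit 113)) (nat_lit 0) (nat_lit 128) = true := by decide +kernel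
theorem th_k_114_0 : allZ (H0.Fi.ncEnt t_P (fun i => ifz (H0.Fi.bit thA i) 0 1) [nat_lit 402, nat_lit 3, nat_lit 163, nat_lit 401, nat_lit 36] thK (H0.Fi.digW (nat_lit 2) (nat_lit 9) (nat_lit 7)) (H0.Fi.digW (nat_lit 2) (nat_lit 9) (nat_lit 7)) (nat_lit 114)) (nat_lit 0) (nat_lit 128) = true := by decide +kernel
theorem th_k_115_0 : allZ (H0.Fi.ncEnt t_P (fun i => ifz (H0.Fi.bit thA i) 0 1) [nat_lit 402, nat_lit 3, nat_lit 163, nat_lit 401, nat_lit 36] thK (H0.Fi.digW (nat_lit 2) (nat_lit 9) (nat_lit 7)) (H0.Fi.digW (nat_lit 2) (nat_lit 9) (nat_lit 7)) (nat_lit 115)) (nat_lit 0) (nat_lit 128) = true := by decide +kernel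
theorem th_k_116_0 : allZ (H0.Fi.ncEnt t_P (fun i => ifz (H0.Fi.bit thA i) 0 1) [nat_lit 402, nat_lit 3, nat_lit 163, nat_lit 401, nat_lit 36] thK (H0.Fi.digW (nat_lit 2) (nat_lit 9) (nat_lit 7)) (H0.Fi.digW (nat_lit 2) (nat_lit 9) (nat_lit 7)) (nat_lit 116)) (nat_lit 0) (nat_lit 128) = true := by decide +kernel
theorem th_k_117_0 : allZ (H0.Fi.ncEnt t_P (fun i => ifz (H0.Fi.bit thA i) 0 1) [nat_lit 402, nat_lit 3, nat_lit 163, nat_lit 401, nat_lit 36] thK (H0.Fi.digW (nat_lit 2) (nat_lit 9) (nat_lit 7)) (H0.Fi.digW (nat_lit 2) (nat_lit 9) (nat_lit 7)) (nat_lit 117)) (nat_lit 0) (nat_lit 128) = true := by decide +kernel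
theorem th_k_118_0 : allZ (H0.Fi.ncEnt t_P (fun i => ifz (H0.Fi.bit thA i) 0 1) [nat_lit 402, nat_lit 3, nat_lit 163, nat_lit 401, nat_lit 36] thK (H0.Fi.digW (nat_lit 2) (nat_lit 9) (nat_lit 7)) (H0.Fi.digW (nat_lit 2) (nat_lit 9) (nat_lit 7)) (nat_lit 118)) (nat_lit 0) (nat_lit 128) = true := by decide +kernel
theorem th_k_119_0 : allZ (H0.Fi.ncEnt t_P (fun i => ifz (H0.Fi.bit thA i) 0 1) [nat_lit 402, nat_lit 3, nat_lit 163, nat_lit 401, nat_lit 36] thK (H0.Fi.digW (nat_lit 2) (nat_lit 9) (nat_lit 7)) (H0.Fi.digW (nat_lit 2) (nat_lit 9) (nat_lit 7)) (nat_lit 119)) (nat_lit 0) (nat_lit 128) = true := by decide +kernel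
theorem th_k_120_0 : allZ (H0.Fi.ncEnt t_P (fun i => ifz (H0.Fi.bit thA i) 0 1) [nat_lit 402, nat_lit 3, nat_lit 163, nat_lit 401, nat_lit 36] thK (H0.Fi.digW (nat_lit 2) (nat_lit 9) (nat_lit 7)) (H0.Fi.digW (nat_lit 2) (nat_lit 9) (nat_lit 7)) (nat_lit 120)) (nat_lit 0) (nat_lit 128) = true := by decide +kernel
theorem th_k_121_0 : allZ (H0.Fi.ncEnt t_P (fun i => ifz (H0.Fi.bit thA i) 0 1) [nat_lit 402, nat_lit 3, nat_lit 163, nat_lit 401, nat_lit 36] thK (H0.Fi.digW (nat_lit 2) (nat_lit 9) (nat_lit 7)) (H0.Fi.digW (nat_lit 2) (nat_lit 9) (nat_lit 7)) (nat_lit 121)) (nat_lit 0) (nat_lit 128) = true := by decide +kernel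
theorem th_k_122_0 : allZ (H0.Fi.ncEnt t_P (fun i => ifz (H0.Fi.bit thA i) 0 1) [nat_lit 402, nat_lit 3, nat_lit 163, nat_lit 401, nat_lit 36] thK (H0.Fi.digW (nat_lit 2) (nat_lit 9) (nat_lit 7)) (H0.Fi.digW (nat_lit 2) (nat_lit 9) (nat_lit 7)) (nat_lit 122)) (nat_lit 0) (nat_lit 128) = true := by decide +kernel
theorem th_k_123_0 : allZ (H0.Fi.ncEnt t_P (fun i => ifz (H0.Fi.bit thA i) 0 1) [nat_lit 402, nat_lit 3, nat_lit 163, nat_lit 401, nat_lit 36] thK (H0.Fi.digW (nat_lit 2) (nat_lit 9) (nat_lit 7)) (H0.Fi.digW (nat_lit 2) (nat_lit 9) (nat_lit 7)) (nat_lit 123)) (nat_lit 0) (nat_lit 128) = true := by decide +kernel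
theorem th_k_124_0 : allZ (H0.Fi.ncEnt t_P (fun i => ifz (H0.Fi.bit thA i) 0 1) [nat_lit 402, nat_lit 3, nat_lit 163, nat_lit 401, nat_lit 36] thK (H0.Fi.digW (nat_lit 2) (nat_lit 9) (nat_lit 7)) (H0.Fi.digW (nat_lit 2) (nat_lit 9) (nat_lit 7)) (nat_lit 124)) (nat_lit 0) (nat_lit 128) = true := by decide +kernel
theorem th_k_125_0 : allZ (H0.Fi.ncEnt t_P (fun i => ifz (H0.Fi.bit thA i) 0 1) [nat_lit 402, nat_lit 3, nat_lit 163, nat_lit 401, nat_lit 36] thK (H0.Fi.digW (nat_lit 2) (nat_lit 9) (nat_lit 7)) (H0.Fi.digW (nat_lit 2) (nat_lit 9) (nat_lit 7)) (nat_lit 125)) (nat_lit 0) (nat_lit 128) = true := by decide +kernel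
theorem th_k_126_0 : allZ (H0.Fi.ncEnt t_P (fun i => ifz (H0.Fi.bit thA i) 0 1) [nat_lit 402, nat_lit 3, nat_lit 163, nat_lit 401, nat_lit 36] thK (H0.Fi.digW (nat_lit 2) (nat_lit 9) (nat_lit 7)) (H0.Fi.digW (nat_lit 2) (nat_lit 9) (nat_lit 7)) (nat_lit 126)) (nat_lit 0) (nat_lit 128) = true := by decide +kernel
theorem th_k_127_0 : allZ (H0.Fi.ncEnt t_P (fun i => ifz (H0.Fi.bit thA i) 0 1) [nat_lit 402, nat_lit 3, nat_lit 163, nat_lit 401, nat_lit 36] thK (H0.Fi.digW (nat_lit 2) (nat_lit 9) (nat_lit 7)) (H0.Fi.digW (nat_lit 2) (nat_lit 9) (nat_lit 7)) (nat_lit 127)) (nat_lit 0) (nat_lit 128) = true := by decide +kernel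
theorem th_f_0_0 : allZ (H0.Fi.ncEnt t_P id [nat_lit 205, nat_lit 288] thF (H0.Fi.digW (nat_lit 2) (nat_lit 9) (nat_lit 7)) (H0.Fi.digW (nat_lit 2) (nat_lit 0) (nat_lit 9)) (nat_lit 0)) (nat_lit 0) (nat_lit 512) = true := by decide +kernel
theorem th_f_1_0 : allZ (H0.Fi.ncEnt t_P id [nat_lit 205, nat_lit 288] thF (H0.Fi.digW (nat_lit 2) (nat_lit 9) (nat_lit 7)) (H0.Fi.digW (nat_lit 2) (nat_lit 0) (nat_lit 9)) (nat_lit 1)) (nat_lit 0) (nat_lit 512) = true := by decide +kernel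
theorem th_f_2_0 : allZ (H0.Fi.ncEnt t_P id [nat_lit 205, nat_lit 288] thF (H0.Fi.digW (nat_lit 2) (nat_lit 9) (nat_lit 7)) (H0.Fi.digW (nat_lit 2) (nat_lit 0) (nat_lit 9)) (nat_lit 2)) (nat_lit 0) (nat_lit 512) = true := by decide +kernel
theorem th_f_3_0 : allZ (H0.Fi.ncEnt t_P id [nat_lit 205, nat_lit 288] thF (H0.Fi.digW (nat_lit 2) (nat_lit 9) (nat_lit 7)) (H0.Fi.digW (nat_lit 2) (nat_lit 0) (nat_lit 9)) (nat_lit 3)) (nat_lit 0) (nat_lit 512) = true := by decide +kernel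
theorem th_f_4_0 : allZ (H0.Fi.ncEnt t_P id [nat_lit 205, nat_lit 288] thF (H0.Fi.digW (nat_lit 2) (nat_lit 9) (nat_lit 7)) (H0.Fi.digW (nat_lit 2) (nat_lit 0) (nat_lit 9)) (nat_lit 4)) (nat_lit 0) (nat_lit 512) = true := by decide +kernel
theorem th_f_5_0 : allZ (H0.Fi.ncEnt t_P id [nat_lit 205, nat_lit 288] thF (H0.Fi.digW (nat_lit 2) (nat_lit 9) (nat_lit 7)) (H0.Fi.digW (nat_lit 2) (nat_lit 0) (nat_lit 9)) (nat_lit 5)) (nat_lit 0) (nat_lit 512) = true := by decide +kernel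
theorem th_f_6_0 : allZ (H0.Fi.ncEnt t_P id [nat_lit 205, nat_lit 288] thF (H0.Fi.digW (nat_lit 2) (nat_lit 9) (nat_lit 7)) (H0.Fi.digW (nat_lit 2) (nat_lit 0) (nat_lit 9)) (nat_lit 6)) (nat_lit 0) (nat_lit 512) = true := by decide +kernel
theorem th_f_7_0 : allZ (H0.Fi.ncEnt t_P id [nat_lit 205, nat_lit 288] thF (H0.Fi.digW (nat_lit 2) (nat_lit 9) (nat_lit 7)) (H0.Fi.digW (nat_lit 2) (nat_lit 0) (nat_lit 9)) (nat_lit 7)) (nat_lit 0) (nat_lit 512) = true := by decide +kernel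
theorem th_f_8_0 : allZ (H0.Fi.ncEnt t_P id [nat_lit 205, nat_lit 288] thF (H0.Fi.digW (nat_lit 2) (nat_lit 9) (nat_lit 7)) (H0.Fi.digW (nat_lit 2) (nat_lit 0) (nat_lit 9)) (nat_lit 8)) (nat_lit 0) (nat_lit 512) = true := by decide +kernel
theorem th_f_9_0 : allZ (H0.Fi.ncEnt t_P id [nat_lit 205, nat_lit 288] thF (H0.Fi.digW (nat_lit 2) (nat_lit 9) (nat_lit 7)) (H0.Fi.digW (nat_lit 2) (nat_lit 0) (nat_lit 9)) (nat_lit 9)) (nat_lit 0) (nat_lit 512) = true := by decide +kernel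
theorem th_f_10_0 : allZ (H0.Fi.ncEnt t_P id [nat_lit 205, nat_lit 288] thF (H0.Fi.digW (nat_lit 2) (nat_lit 9) (nat_lit 7)) (H0.Fi.digW (nat_lit 2) (nat_lit 0) (nat_lit 9)) (nat_lit 10)) (nat_lit 0) (nat_lit 512) = true := by decide +kernel
theorem th_f_11_0 : allZ (H0.Fi.ncEnt t_P id [nat_lit 205, nat_lit 288] thF (H0.Fi.digW (nat_lit 2) (nat_lit 9) (nat_lit 7)) (H0.Fi.digW (nat_lit 2) (nat_lit 0) (nat_lit 9)) (nat_lit 11)) (nat_lit 0) (nat_lit 512) = true := by decide +kernel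
theorem th_f_12_0 : allZ (H0.Fi.ncEnt t_P id [nat_lit 205, nat_lit 288] thF (H0.Fi.digW (nat_lit 2) (nat_lit 9) (nat_lit 7)) (H0.Fi.digW (nat_lit 2) (nat_lit 0) (nat_lit 9)) (nat_lit 12)) (nat_lit 0) (nat_lit 512) = true := by decide +kernel
theorem th_f_13_0 : allZ (H0.Fi.ncEnt t_P id [nat_lit 205, nat_lit 288] thF (H0.Fi.digW (nat_lit 2) (nat_lit 9) (nat_lit 7)) (H0.Fi.digW (nat_lit 2) (nat_lit 0) (nat_lit 9)) (nat_lit 13)) (nat_lit 0) (nat_lit 512) = true := by decide +kernel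
theorem th_f_14_0 : allZ (H0.Fi.ncEnt t_P id [nat_lit 205, nat_lit 288] thF (H0.Fi.digW (nat_lit 2) (nat_lit 9) (nat_lit 7)) (H0.Fi.digW (nat_lit 2) (nat_lit 0) (nat_lit 9)) (nat_lit 14)) (nat_lit 0) (nat_lit 512) = true := by decide +kernel
theorem th_f_15_0 : allZ (H0.Fi.ncEnt t_P id [nat_lit 205, nat_lit 288] thF (H0.Fi.digW (nat_lit 2) (nat_lit 9) (nat_lit 7)) (H0.Fi.digW (nat_lit 2) (nat_lit 0) (nat_lit 9)) (nat_lit 15)) (nat_lit 0) (nat_lit 512) = true := by decide +kernel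
theorem th_f_16_0 : allZ (H0.Fi.ncEnt t_P id [nat_lit 205, nat_lit 288] thF (H0.Fi.digW (nat_lit 2) (nat_lit 9) (nat_lit 7)) (H0.Fi.digW (nat_lit 2) (nat_lit 0) (nat_lit 9)) (nat_lit 16)) (nat_lit 0) (nat_lit 512) = true := by decide +kernel
theorem th_f_17_0 : allZ (H0.Fi.ncEnt t_P id [nat_lit 205, nat_lit 288] thF (H0.Fi.digW (nat_lit 2) (nat_lit 9) (nat_lit 7)) (H0.Fi.digW (nat_lit 2) (nat_lit 0) (nat_lit 9)) (nat_lit 17)) (nat_lit 0) (nat_lit 512) = true := by decide +kernel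
theorem th_f_18_0 : allZ (H0.Fi.ncEnt t_P id [nat_lit 205, nat_lit 288] thF (H0.Fi.digW (nat_lit 2) (nat_lit 9) (nat_lit 7)) (H0.Fi.digW (nat_lit 2) (nat_lit 0) (nat_lit 9)) (nat_lit 18)) (nat_lit 0) (nat_lit 512) = true := by decide +kernel
theorem th_f_19_0 : allZ (H0.Fi.ncEnt t_P id [nat_lit 205, nat_lit 288] thF (H0.Fi.digW (nat_lit 2) (nat_lit 9) (nat_lit 7)) (H0.Fi.digW (nat_lit 2) (nat_lit 0) (nat_lit 9)) (nat_lit 19)) (nat_lit 0) (nat_lit 512) = true := by decide +kernel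
theorem th_f_20_0 : allZ (H0.Fi.ncEnt t_P id [nat_lit 205, nat_lit 288] thF (H0.Fi.digW (nat_lit 2) (nat_lit 9) (nat_lit 7)) (H0.Fi.digW (nat_lit 2) (nat_lit 0) (nat_lit 9)) (nat_lit 20)) (nat_lit 0) (nat_lit 512) = true := by decide +kernel
theorem th_f_21_0 : allZ (H0.Fi.ncEnt t_P id [nat_lit 205, nat_lit 288] thF (H0.Fi.digW (nat_lit 2) (nat_lit 9) (nat_lit 7)) (H0.Fi.digW (nat_lit 2) (nat_lit 0) (nat_lit 9)) (nat_lit 21)) (nat_lit 0) (nat_lit 512) = true := by decide +kernel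
theorem th_f_22_0 : allZ (H0.Fi.ncEnt t_P id [nat_lit 205, nat_lit 288] thF (H0.Fi.digW (nat_lit 2) (nat_lit 9) (nat_lit 7)) (H0.Fi.digW (nat_lit 2) (nat_lit 0) (nat_lit 9)) (nat_lit 22)) (nat_lit 0) (nat_lit 512) = true := by decide +kernel
theorem th_f_23_0 : allZ (H0.Fi.ncEnt t_P id [nat_lit 205, nat_lit 288] thF (H0.Fi.digW (nat_lit 2) (nat_lit 9) (nat_lit 7)) (H0.Fi.digW (nat_lit 2) (nat_lit 0) (nat_lit 9)) (nat_lit 23)) (nat_lit 0) (nat_lit 512) = true := by decide +kernel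

end H18.TE.V
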