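import Cfsg.Agent.H18.TEg.V.D0

/-! Generated by tools/h0/tr.py. -/

set_option maxRecDepth 100000
set_option maxHeartbeats 0

namespace H18.TE.V
open H16 H0.TR
open scoped commutatorElement

theorem th_f_52_0 : allZ (H0.Fi.ncEnt t_P id [nat_lit 205, nat_lit 288] thF (H0.Fi.digW (nat_lit 2) (nat_lit 9) (nat_lit 7)) (H0.Fi.digW (nat_lit 2) (nat_lit 0) (nat_lit 9)) (nat_lit 52)) (nat_lit 0) (nat_lit 512) = true := by decide +kernel
theorem th_f_53_0 : allZ (H0.Fi.ncEnt t_P id [nat_lit 205, nat_lit 288] thF (H0.Fi.digW (nat_lit 2) (nat_lit 9) (nat_lit 7)) (H0.Fi.digW (nat_lit 2) (nat_lit 0) (nat_lit 9)) (nat_lit 53)) (nat_lit 0) (nat_lit 512) = true := by decide +kernel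
theorem th_f_54_0 : allZ (H0.Fi.ncEnt t_P id [nat_lit 205, nat_lit 288] thF (H0.Fi.digW (nat_lit 2) (nat_lit 9) (nat_lit 7)) (H0.Fi.digW (nat_lit 2) (nat_lit 0) (nat_lit 9)) (nat_lit 54)) (nat_lit 0) (nat_lit 512) = true := by decide +kernel
theorem th_f_55_0 : allZ (H0.Fi.ncEnt t_P id [nat_lit 205, nat_lit 288] thF (H0.Fi.digW (nat_lit 2) (nat_lit 9) (nat_lit 7)) (H0.Fi.digW (nat_lit 2) (nat_lit 0) (nat_lit 9)) (nat_lit 55)) (nat_lit 0) (nat_lit 512) = true := by decide +kernel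
theorem th_f_56_0 : allZ (H0.Fi.ncEnt t_P id [nat_lit 205, nat_lit 288] thF (H0.Fi.digW (nat_lit 2) (nat_lit 9) (nat_lit 7)) (H0.Fi.digW (nat_lit 2) (nat_lit 0) (nat_lit 9)) (nat_lit 56)) (nat_lit 0) (nat_lit 512) = true := by decide +kernel
theorem th_f_57_0 : allZ (H0.Fi.ncEnt t_P id [nat_lit 205, nat_lit 288] thF (H0.Fi.digW (nat_lit 2) (nat_lit 9) (nat_lit 7)) (H0.Fi.digW (nat_lit 2) (nat_lit 0) (nat_lit 9)) (nat_lit 57)) (nat_lit 0) (nat_lit 512) = true := by decide +kernel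
theorem th_f_58_0 : allZ (H0.Fi.ncEnt t_P id [nat_lit 205, nat_lit 288] thF (H0.Fi.digW (nat_lit 2) (nat_lit 9) (nat_lit 7)) (H0.Fi.digW (nat_lit 2) (nat_lit 0) (nat_lit 9)) (nat_lit 58)) (nat_lit 0) (nat_lit 512) = true := by decide +kernel
theorem th_f_59_0 : allZ (H0.Fi.ncEnt t_P id [nat_lit 205, nat_lit 288] thF (H0.Fi.digW (nat_lit 2) (nat_lit 9) (nat_lit 7)) (H0.Fi.digW (nat_lit 2) (nat_lit 0) (nat_lit 9)) (nat_lit 59)) (nat_lit 0) (nat_lit 512) = true := by decide +kernel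
theorem th_f_60_0 : allZ (H0.Fi.ncEnt t_P id [nat_lit 205, nat_lit 288] thF (H0.Fi.digW (nat_lit 2) (nat_lit 9) (nat_lit 7)) (H0.Fi.digW (nat_lit 2) (nat_lit 0) (nat_lit 9)) (nat_lit 60)) (nat_lit 0) (nat_lit 512) = true := by decide +kernel
theorem th_f_61_0 : allZ (H0.Fi.ncEnt t_P id [nat_lit 205, nat_lit 288] thF (H0.Fi.digW (nat_lit 2) (nat_lit 9) (nat_lit 7)) (H0.Fi.digW (nat_lit 2) (nat_lit 0) (nat_lit 9)) (nat_lit 61)) (nat_lit 0) (nat_lit 512) = true := by decide +kernel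
theorem th_f_62_0 : allZ (H0.Fi.ncEnt t_P id [nat_lit 205, nat_lit 288] thF (H0.Fi.digW (nat_lit 2) (nat_lit 9) (nat_lit 7)) (H0.Fi.digW (nat_lit 2) (nat_lit 0) (nat_lit 9)) (nat_lit 62)) (nat_lit 0) (nat_lit 512) = true := by decide +kernel
theorem th_f_63_0 : allZ (H0.Fi.ncEnt t_P id [nat_lit 205, nat_lit 288] thF (H0.Fi.digW (nat_lit 2) (nat_lit 9) (nat_lit 7)) (H0.Fi.digW (nat_lit 2) (nat_lit 0) (nat_lit 9)) (nat_lit 63)) (nat_lit 0) (nat_lit 512) = true := by decide +kernel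
theorem th_f_64_0 : allZ (H0.Fi.ncEnt t_P id [nat_lit 205, nat_lit 288] thF (H0.Fi.digW (nat_lit 2) (nat_lit 9) (nat_lit 7)) (H0.Fi.digW (nat_lit 2) (nat_lit 0) (nat_lit 9)) (nat_lit 64)) (nat_lit 0) (nat_lit 512) = true := by decide +kernel
theorem th_f_65_0 : allZ (H0.Fi.ncEnt t_P id [nat_lit 205, nat_lit 288] thF (H0.Fi.digW (nat_lit 2) (nat_lit 9) (nat_lit 7)) (H0.Fi.digW (nat_lit 2) (nat_lit 0) (nat_lit 9)) (nat_lit 65)) (nat_lit 0) (nat_lit 512) = true := by decide +kernel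
theorem th_f_66_0 : allZ (H0.Fi.ncEnt t_P id [nat_lit 205, nat_lit 288] thF (H0.Fi.digW (nat_lit 2) (nat_lit 9) (nat_lit 7)) (H0.Fi.digW (nat_lit 2) (nat_lit 0) (nat_lit 9)) (nat_lit 66)) (nat_lit 0) (nat_lit 512) = true := by decide +kernel
theorem th_f_67_0 : allZ (H0.Fi.ncEnt t_P id [nat_lit 205, nat_lit 288] thF (H0.Fi.digW (nat_lit 2) (nat_lit 9) (nat_lit 7)) (H0.Fi.digW (nat_lit 2) (nat_lit 0) (nat_lit 9)) (nat_lit 67)) (nat_lit 0) (nat_lit 512) = true := by decide +kernel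
theorem th_f_68_0 : allZ (H0.Fi.ncEnt t_P id [nat_lit 205, nat_lit 288] thF (H0.Fi.digW (nat_lit 2) (nat_lit 9) (nat_lit 7)) (H0.Fi.digW (nat_lit 2) (nat_lit 0) (nat_lit 9)) (nat_lit 68)) (nat_lit 0) (nat_lit 512) = true := by decide +kernel
theorem th_f_69_0 : allZ (H0.Fi.ncEnt t_P id [nat_lit 205, nat_lit 288] thF (H0.Fi.digW (nat_lit 2) (nat_lit 9) (nat_lit 7)) (H0.Fi.digW (nat_lit 2) (nat_lit 0) (nat_lit 9)) (nat_lit 69)) (nat_lit 0) (nat_lit 512) = true := by decide +kernel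
theorem th_f_70_0 : allZ (H0.Fi.ncEnt t_P id [nat_lit 205, nat_lit 288] thF (H0.Fi.digW (nat_lit 2) (nat_lit 9) (nat_lit 7)) (H0.Fi.digW (nat_lit 2) (nat_lit 0) (nat_lit 9)) (nat_lit 70)) (nat_lit 0) (nat_lit 512) = true := by decide +kernel
theorem th_f_71_0 : allZ (H0.Fi.ncEnt t_P id [nat_lit 205, nat_lit 288] thF (H0.Fi.digW (nat_lit 2) (nat_lit 9) (nat_lit 7)) (H0.Fi.digW (nat_lit 2) (nat_lit 0) (nat_lit 9)) (nat_lit 71)) (nat_lit 0) (nat_lit 512) = true := by decide +kernel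
theorem th_f_72_0 : allZ (H0.Fi.ncEnt t_P id [nat_lit 205, nat_lit 288] thF (H0.Fi.digW (nat_lit 2) (nat_lit 9) (nat_lit 7)) (H0.Fi.digW (nat_lit 2) (nat_lit 0) (nat_lit 9)) (nat_lit 72)) (nat_lit 0) (nat_lit 512) = true := by decide +kernel
theorem th_f_73_0 : allZ (H0.Fi.ncEnt t_P id [nat_lit 205, nat_lit 288] thF (H0.Fi.digW (nat_lit 2) (nat_lit 9) (nat_lit 7)) (H0.Fi.digW (nat_lit 2) (nat_lit 0) (nat_lit 9)) (nat_lit 73)) (nat_lit 0) (nat_lit 512) = true := by decide +kernel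
theorem th_f_74_0 : allZ (H0.Fi.ncEnt t_P id [nat_lit 205, nat_lit 288] thF (H0.Fi.digW (nat_lit 2) (nat_lit 9) (nat_lit 7)) (H0.Fi.digW (nat_lit 2) (nat_lit 0) (nat_lit 9)) (nat_lit 74)) (nat_lit 0) (nat_lit 512) = true := by decide +kernel
theorem th_f_75_0 : allZ (H0.Fi.ncEnt t_P id [nat_lit 205, nat_lit 288] thF (H0.Fi.digW (nat_lit 2) (nat_lit 9) (nat_lit 7)) (H0.Fi.digW (nat_lit 2) (nat_lit 0) (nat_lit 9)) (nat_lit 75)) (nat_lit 0) (nat_lit 512) = true := by decide +kernel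
theorem th_f_76_0 : allZ (H0.Fi.ncEnt t_P id [nat_lit 205, nat_lit 288] thF (H0.Fi.digW (nat_lit 2) (nat_lit 9) (nat_lit 7)) (H0.Fi.digW (nat_lit 2) (nat_lit 0) (nat_lit 9)) (nat_lit 76)) (nat_lit 0) (nat_lit 512) = true := by decide +kernel
theorem th_f_77_0 : allZ (H0.Fi.ncEnt t_P id [nat_lit 205, nat_lit 288] thF (H0.Fi.digW (nat_lit 2) (nat_lit 9) (nat_lit 7)) (H0.Fi.digW (nat_lit 2) (nat_lit 0) (nat_lit 9)) (nat_lit 77)) (nat_lit 0) (nat_lit 512) = true := by decide +kernel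
theorem th_f_78_0 : allZ (H0.Fi.ncEnt t_P id [nat_lit 205, nat_lit 288] thF (H0.Fi.digW (nat_lit 2) (nat_lit 9) (nat_lit 7)) (H0.Fi.digW (nat_lit 2) (nat_lit 0) (nat_lit 9)) (nat_lit 78)) (nat_lit 0) (nat_lit 512) = true := by decide +kernel
theorem th_f_79_0 : allZ (H0.Fi.ncEnt t_P id [nat_lit 205, nat_lit 288] thF (H0.Fi.digW (nat_lit 2) (nat_lit 9) (nat_lit 7)) (H0.Fi.digW (nat_lit 2) (nat_lit 0) (nat_lit 9)) (nat_lit 79)) (nat_lit 0) (nat_lit 512) = true := by decide +kernel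

end H18.TE.V
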