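import Cfsg.Agent.H18.TEg.V.D0

/-! Generated by tools/h0/tr.py. -/

set_option maxRecDepth 100000
set_option maxHeartbeats 0

namespace H18.TE.V
open H16 H0.TR
open scoped commutatorElement

theorem th_f_80_0 : allZ (H0.Fi.ncEnt t_P id [nat_lit 205, nat_lit 288] thF (H0.Fi.digW (nat_lit 2) (nat_lit 9) (nat_lit 7)) (H0.Fi.digW (nat_lit 2) (nat_lit 0) (nat_lit 9)) (nat_lit 80)) (nat_lit 0) (nat_lit 512) = true := by decide +kernel
theorem th_f_81_0 : allZ (H0.Fi.ncEnt t_P id [nat_lit 205, nat_lit 288] thF (H0.Fi.digW (nat_lit 2) (nat_lit 9) (nat_lit 7)) (H0.Fi.digW (nat_lit 2) (nat_lit 0) (nat_lit 9)) (nat_lit 81)) (nat_lit 0) (nat_lit 512) = true := by decide +kernel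
theorem th_f_82_0 : allZ (H0.Fi.ncEnt t_P id [nat_lit 205, nat_lit 288] thF (H0.Fi.digW (nat_lit 2) (nat_lit 9) (nat_lit 7)) (H0.Fi.digW (nat_lit 2) (nat_lit 0) (nat_lit 9)) (nat_lit 82)) (nat_lit 0) (nat_lit 512) = true := by decide +kernel
theorem th_f_83_0 : allZ (H0.Fi.ncEnt t_P id [nat_lit 205, nat_lit 288] thF (H0.Fi.digW (nat_lit 2) (nat_lit 9) (nat_lit 7)) (H0.Fi.digW (nat_lit 2) (nat_lit 0) (nat_lit 9)) (nat_lit 83)) (nat_lit 0) (nat_lit 512) = true := by decide +kernel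
theorem th_f_84_0 : allZ (H0.Fi.ncEnt t_P id [nat_lit 205, nat_lit 288] thF (H0.Fi.digW (nat_lit 2) (nat_lit 9) (nat_lit 7)) (H0.Fi.digW (nat_lit 2) (nat_lit 0) (nat_lit 9)) (nat_lit 84)) (nat_lit 0) (nat_lit 512) = true := by decide +kernel
theorem th_f_85_0 : allZ (H0.Fi.ncEnt t_P id [nat_lit 205, nat_lit 288] thF (H0.Fi.digW (nat_lit 2) (nat_lit 9) (nat_lit 7)) (H0.Fi.digW (nat_lit 2) (nat_lit 0) (nat_lit 9)) (nat_lit 85)) (nat_lit 0) (nat_lit 512) = true := by decide +kernel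
theorem th_f_86_0 : allZ (H0.Fi.ncEnt t_P id [nat_lit 205, nat_lit 288] thF (H0.Fi.digW (nat_lit 2) (nat_lit 9) (nat_lit 7)) (H0.Fi.digW (nat_lit 2) (nat_lit 0) (nat_lit 9)) (nat_lit 86)) (nat_lit 0) (nat_lit 512) = true := by decide +kernel
theorem th_f_87_0 : allZ (H0.Fi.ncEnt t_P id [nat_lit 205, nat_lit 288] thF (H0.Fi.digW (nat_lit 2) (nat_lit 9) (nat_lit 7)) (H0.Fi.digW (nat_lit 2) (nat_lit 0) (nat_lit 9)) (nat_lit 87)) (nat_lit 0) (nat_lit 512) = true := by decide +kernel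
theorem th_f_88_0 : allZ (H0.Fi.ncEnt t_P id [nat_lit 205, nat_lit 288] thF (H0.Fi.digW (nat_lit 2) (nat_lit 9) (nat_lit 7)) (H0.Fi.digW (nat_lit 2) (nat_lit 0) (nat_lit 9)) (nat_lit 88)) (nat_lit 0) (nat_lit 512) = true := by decide +kernel
theorem th_f_89_0 : allZ (H0.Fi.ncEnt t_P id [nat_lit 205, nat_lit 288] thF (H0.Fi.digW (nat_lit 2) (nat_lit 9) (nat_lit 7)) (H0.Fi.digW (nat_lit 2) (nat_lit 0) (nat_lit 9)) (nat_lit 89)) (nat_lit 0) (nat_lit 512) = true := by decide +kernel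
theorem th_f_90_0 : allZ (H0.Fi.ncEnt t_P id [nat_lit 205, nat_lit 288] thF (H0.Fi.digW (nat_lit 2) (nat_lit 9) (nat_lit 7)) (H0.Fi.digW (nat_lit 2) (nat_lit 0) (nat_lit 9)) (nat_lit 90)) (nat_lit 0) (nat_lit 512) = true := by decide +kernel
theorem th_f_91_0 : allZ (H0.Fi.ncEnt t_P id [nat_lit 205, nat_lit 288] thF (H0.Fi.digW (nat_lit 2) (nat_lit 9) (nat_lit 7)) (H0.Fi.digW (nat_lit 2) (nat_lit 0) (nat_lit 9)) (nat_lit 91)) (nat_lit 0) (nat_lit 512) = true := by decide +kernel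
theorem th_f_92_0 : allZ (H0.Fi.ncEnt t_P id [nat_lit 205, nat_lit 288] thF (H0.Fi.digW (nat_lit 2) (nat_lit 9) (nat_lit 7)) (H0.Fi.digW (nat_lit 2) (nat_lit 0) (nat_lit 9)) (nat_lit 92)) (nat_lit 0) (nat_lit 512) = true := by decide +kernel
theorem th_f_93_0 : allZ (H0.Fi.ncEnt t_P id [nat_lit 205, nat_lit 288] thF (H0.Fi.digW (nat_lit 2) (nat_lit 9) (nat_lit 7)) (H0.Fi.digW (nat_lit 2) (nat_lit 0) (nat_lit 9)) (nat_lit 93)) (nat_lit 0) (nat_lit 512) = true := by decide +kernel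
theorem th_f_94_0 : allZ (H0.Fi.ncEnt t_P id [nat_lit 205, nat_lit 288] thF (H0.Fi.digW (nat_lit 2) (nat_lit 9) (nat_lit 7)) (H0.Fi.digW (nat_lit 2) (nat_lit 0) (nat_lit 9)) (nat_lit 94)) (nat_lit 0) (nat_lit 512) = true := by decide +kernel
theorem th_f_95_0 : allZ (H0.Fi.ncEnt t_P id [nat_lit 205, nat_lit 288] thF (H0.Fi.digW (nat_lit 2) (nat_lit 9) (nat_lit 7)) (H0.Fi.digW (nat_lit 2) (nat_lit 0) (nat_lit 9)) (nat_lit 95)) (nat_lit 0) (nat_lit 512) = true := by decide +kernel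
theorem th_f_96_0 : allZ (H0.Fi.ncEnt t_P id [nat_lit 205, nat_lit 288] thF (H0.Fi.digW (nat_lit 2) (nat_lit 9) (nat_lit 7)) (H0.Fi.digW (nat_lit 2) (nat_lit 0) (nat_lit 9)) (nat_lit 96)) (nat_lit 0) (nat_lit 512) = true := by decide +kernel
theorem th_f_97_0 : allZ (H0.Fi.ncEnt t_P id [nat_lit 205, nat_lit 288] thF (H0.Fi.digW (nat_lit 2) (nat_lit 9) (nat_lit 7)) (H0.Fi.digW (nat_lit 2) (nat_lit 0) (nat_lit 9)) (nat_lit 97)) (nat_lit 0) (nat_lit 512) = true := by decide +kernel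
theorem th_f_98_0 : allZ (H0.Fi.ncEnt t_P id [nat_lit 205, nat_lit 288] thF (H0.Fi.digW (nat_lit 2) (nat_lit 9) (nat_lit 7)) (H0.Fi.digW (nat_lit 2) (nat_lit 0) (nat_lit 9)) (nat_lit 98)) (nat_lit 0) (nat_lit 512) = true := by decide +kernel
theorem th_f_99_0 : allZ (H0.Fi.ncEnt t_P id [nat_lit 205, nat_lit 288] thF (H0.Fi.digW (nat_lit 2) (nat_lit 9) (nat_lit 7)) (H0.Fi.digW (nat_lit 2) (nat_lit 0) (nat_lit 9)) (nat_lit 99)) (nat_lit 0) (nat_lit 512) = true := by decide +kernel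
theorem th_f_100_0 : allZ (H0.Fi.ncEnt t_P id [nat_lit 205, nat_lit 288] thF (H0.Fi.digW (nat_lit 2) (nat_lit 9) (nat_lit 7)) (H0.Fi.digW (nat_lit 2) (nat_lit 0) (nat_lit 9)) (nat_lit 100)) (nat_lit 0) (nat_lit 512) = true := by decide +kernel
theorem th_f_101_0 : allZ (H0.Fi.ncEnt t_P id [nat_lit 205, nat_lit 288] thF (H0.Fi.digW (nat_lit 2) (nat_lit 9) (nat_lit 7)) (H0.Fi.digW (nat_lit 2) (nat_lit 0) (nat_lit 9)) (nat_lit 101)) (nat_lit 0) (nat_lit 512) = true := by decide +kernel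
theorem th_f_102_0 : allZ (H0.Fi.ncEnt t_P id [nat_lit 205, nat_lit 288] thF (H0.Fi.digW (nat_lit 2) (nat_lit 9) (nat_lit 7)) (H0.Fi.digW (nat_lit 2) (nat_lit 0) (nat_lit 9)) (nat_lit 102)) (nat_lit 0) (nat_lit 512) = true := by decide +kernel
theorem th_f_103_0 : allZ (H0.Fi.ncEnt t_P id [nat_lit 205, nat_lit 288] thF (H0.Fi.digW (nat_lit 2) (nat_lit 9) (nat_lit 7)) (H0.Fi.digW (nat_lit 2) (nat_lit 0) (nat_lit 9)) (nat_lit 103)) (nat_lit 0) (nat_lit 512) = true := by decide +kernel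
theorem th_f_104_0 : allZ (H0.Fi.ncEnt t_P id [nat_lit 205, nat_lit 288] thF (H0.Fi.digW (nat_lit 2) (nat_lit 9) (nat_lit 7)) (H0.Fi.digW (nat_lit 2) (nat_lit 0) (nat_lit 9)) (nat_lit 104)) (nat_lit 0) (nat_lit 512) = true := by decide +kernel
theorem th_f_105_0 : allZ (H0.Fi.ncEnt t_P id [nat_lit 205, nat_lit 288] thF (H0.Fi.digW (nat_lit 2) (nat_lit 9) (nat_lit 7)) (H0.Fi.digW (nat_lit 2) (nat_lit 0) (nat_lit 9)) (nat_lit 105)) (nat_lit 0) (nat_lit 512) = true := by decide +kernel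
theorem th_f_106_0 : allZ (H0.Fi.ncEnt t_P id [nat_lit 205, nat_lit 288] thF (H0.Fi.digW (nat_lit 2) (nat_lit 9) (nat_lit 7)) (H0.Fi.digW (nat_lit 2) (nat_lit 0) (nat_lit 9)) (nat_lit 106)) (nat_lit 0) (nat_lit 512) = true := by decide +kernel
theorem th_f_107_0 : allZ (H0.Fi.ncEnt t_P id [nat_lit 205, nat_lit 288] thF (H0.Fi.digW (nat_lit 2) (nat_lit 9) (nat_lit 7)) (H0.Fi.digW (nat_lit 2) (nat_lit 0) (nat_lit 9)) (nat_lit 107)) (nat_lit 0) (nat_lit 512) = true := by decide +kernel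

end H18.TE.V
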