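import Cfsg.Agent.H18.TEg.V.D0

/-! Generated by tools/h0/tr.py. -/

set_option maxRecDepth 100000
set_option maxHeartbeats 0

namespace H18.TE.V
open H16 H0.TR
open scoped commutatorElement

theorem th_f_108_0 : allZ (H0.Fi.ncEnt t_P id [nat_lit 205, nat_lit 288] thF (H0.Fi.digW (nat_lit 2) (nat_lit 9) (nat_lit 7)) (H0.Fi.digW (nat_lit 2) (nat_lit 0) (nat_lit 9)) (nat_lit 108)) (nat_lit 0) (nat_lit 512) = true := by decide +kernel
theorem th_f_109_0 : allZ (H0.Fi.ncEnt t_P id [nat_lit 205, nat_lit 288] thF (H0.Fi.digW (nat_lit 2) (nat_lit 9) (nat_lit 7)) (H0.Fi.digW (nat_lit 2) (nat_lit 0) (nat_lit 9)) (nat_lit 109)) (nat_lit 0) (nat_lit 512) = true := by decide +kernel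
theorem th_f_110_0 : allZ (H0.Fi.ncEnt t_P id [nat_lit 205, nat_lit 288] thF (H0.Fi.digW (nat_lit 2) (nat_lit 9) (nat_lit 7)) (H0.Fi.digW (nat_lit 2) (nat_lit 0) (nat_lit 9)) (nat_lit 110)) (nat_lit 0) (nat_lit 512) = true := by decide +kernel
theorem th_f_111_0 : allZ (H0.Fi.ncEnt t_P id [nat_lit 205, nat_lit 288] thF (H0.Fi.digW (nat_lit 2) (nat_lit 9) (nat_lit 7)) (H0.Fi.digW (nat_lit 2) (nat_lit 0) (nat_lit 9)) (nat_lit 111)) (nat_lit 0) (nat_lit 512) = true := by decide +kernel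
theorem th_f_112_0 : allZ (H0.Fi.ncEnt t_P id [nat_lit 205, nat_lit 288] thF (H0.Fi.digW (nat_lit 2) (nat_lit 9) (nat_lit 7)) (H0.Fi.digW (nat_lit 2) (nat_lit 0) (nat_lit 9)) (nat_lit 112)) (nat_lit 0) (nat_lit 512) = true := by decide +kernel
theorem th_f_113_0 : allZ (H0.Fi.ncEnt t_P id [nat_lit 205, nat_lit 288] thF (H0.Fi.digW (nat_lit 2) (nat_lit 9) (nat_lit 7)) (H0.Fi.digW (nat_lit 2) (nat_lit 0) (nat_lit 9)) (nat_lit 113)) (nat_lit 0) (nat_lit 512) = true := by decide +kernel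
theorem th_f_114_0 : allZ (H0.Fi.ncEnt t_P id [nat_lit 205, nat_lit 288] thF (H0.Fi.digW (nat_lit 2) (nat_lit 9) (nat_lit 7)) (H0.Fi.digW (nat_lit 2) (nat_lit 0) (nat_lit 9)) (nat_lit 114)) (nat_lit 0) (nat_lit 512) = true := by decide +kernel
theorem th_f_115_0 : allZ (H0.Fi.ncEnt t_P id [nat_lit 205, nat_lit 288] thF (H0.Fi.digW (nat_lit 2) (nat_lit 9) (nat_lit 7)) (H0.Fi.digW (nat_lit 2) (nat_lit 0) (nat_lit 9)) (nat_lit 115)) (nat_lit 0) (nat_lit 512) = true := by decide +kernel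
theorem th_f_116_0 : allZ (H0.Fi.ncEnt t_P id [nat_lit 205, nat_lit 288] thF (H0.Fi.digW (nat_lit 2) (nat_lit 9) (nat_lit 7)) (H0.Fi.digW (nat_lit 2) (nat_lit 0) (nat_lit 9)) (nat_lit 116)) (nat_lit 0) (nat_lit 512) = true := by decide +kernel
theorem th_f_117_0 : allZ (H0.Fi.ncEnt t_P id [nat_lit 205, nat_lit 288] thF (H0.Fi.digW (nat_lit 2) (nat_lit 9) (nat_lit 7)) (H0.Fi.digW (nat_lit 2) (nat_lit 0) (nat_lit 9)) (nat_lit 117)) (nat_lit 0) (nat_lit 512) = true := by decide +kernel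
theorem th_f_118_0 : allZ (H0.Fi.ncEnt t_P id [nat_lit 205, nat_lit 288] thF (H0.Fi.digW (nat_lit 2) (nat_lit 9) (nat_lit 7)) (H0.Fi.digW (nat_lit 2) (nat_lit 0) (nat_lit 9)) (nat_lit 118)) (nat_lit 0) (nat_lit 512) = true := by decide +kernel
theorem th_f_119_0 : allZ (H0.Fi.ncEnt t_P id [nat_lit 205, nat_lit 288] thF (H0.Fi.digW (nat_lit 2) (nat_lit 9) (nat_lit 7)) (H0.Fi.digW (nat_lit 2) (nat_lit 0) (nat_lit 9)) (nat_lit 119)) (nat_lit 0) (nat_lit 512) = true := by decide +kernel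
theorem th_f_120_0 : allZ (H0.Fi.ncEnt t_P id [nat_lit 205, nat_lit 288] thF (H0.Fi.digW (nat_lit 2) (nat_lit 9) (nat_lit 7)) (H0.Fi.digW (nat_lit 2) (nat_lit 0) (nat_lit 9)) (nat_lit 120)) (nat_lit 0) (nat_lit 512) = true := by decide +kernel
theorem th_f_121_0 : allZ (H0.Fi.ncEnt t_P id [nat_lit 205, nat_lit 288] thF (H0.Fi.digW (nat_lit 2) (nat_lit 9) (nat_lit 7)) (H0.Fi.digW (nat_lit 2) (nat_lit 0) (nat_lit 9)) (nat_lit 121)) (nat_lit 0) (nat_lit 512) = true := by decide +kernel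
theorem th_f_122_0 : allZ (H0.Fi.ncEnt t_P id [nat_lit 205, nat_lit 288] thF (H0.Fi.digW (nat_lit 2) (nat_lit 9) (nat_lit 7)) (H0.Fi.digW (nat_lit 2) (nat_lit 0) (nat_lit 9)) (nat_lit 122)) (nat_lit 0) (nat_lit 512) = true := by decide +kernel
theorem th_f_123_0 : allZ (H0.Fi.ncEnt t_P id [nat_lit 205, nat_lit 288] thF (H0.Fi.digW (nat_lit 2) (nat_lit 9) (nat_lit 7)) (H0.Fi.digW (nat_lit 2) (nat_lit 0) (nat_lit 9)) (nat_lit 123)) (nat_lit 0) (nat_lit 512) = true := by decide +kernel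
theorem th_f_124_0 : allZ (H0.Fi.ncEnt t_P id [nat_lit 205, nat_lit 288] thF (H0.Fi.digW (nat_lit 2) (nat_lit 9) (nat_lit 7)) (H0.Fi.digW (nat_lit 2) (nat_lit 0) (nat_lit 9)) (nat_lit 124)) (nat_lit 0) (nat_lit 512) = true := by decide +kernel
theorem th_f_125_0 : allZ (H0.Fi.ncEnt t_P id [nat_lit 205, nat_lit 288] thF (H0.Fi.digW (nat_lit 2) (nat_lit 9) (nat_lit 7)) (H0.Fi.digW (nat_lit 2) (nat_lit 0) (nat_lit 9)) (nat_lit 125)) (nat_lit 0) (nat_lit 512) = true := by decide +kernel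
theorem th_f_126_0 : allZ (H0.Fi.ncEnt t_P id [nat_lit 205, nat_lit 288] thF (H0.Fi.digW (nat_lit 2) (nat_lit 9) (nat_lit 7)) (H0.Fi.digW (nat_lit 2) (nat_lit 0) (nat_lit 9)) (nat_lit 126)) (nat_lit 0) (nat_lit 512) = true := by decide +kernel
theorem th_f_127_0 : allZ (H0.Fi.ncEnt t_P id [nat_lit 205, nat_lit 288] thF (H0.Fi.digW (nat_lit 2) (nat_lit 9) (nat_lit 7)) (H0.Fi.digW (nat_lit 2) (nat_lit 0) (nat_lit 9)) (nat_lit 127)) (nat_lit 0) (nat_lit 512) = true := by decide +kernel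
theorem th_s_0 : allZ (fun c => bif c.beq 0 || H0.Fi.srch thK thF (nat_lit 128) (nat_lit 512) (nat_lit 3) (thK c) (thF c) then 0 else 1) (nat_lit 0) (nat_lit 24) = true := by decide +kernel
theorem th_s_1 : allZ (fun c => bif c.beq 0 || H0.Fi.srch thK thF (nat_lit 128) (nat_lit 512) (nat_lit 3) (thK c) (thF c) then 0 else 1) (nat_lit 24) (nat_lit 24) = true := by decide +kernel

end H18.TE.V
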