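import Cfsg.Agent.H18.TEg.V.D0

/-! Generated by tools/h0/tr.py. -/

set_option maxRecDepth 100000
set_option maxHeartbeats 0

namespace H18.TE.V
open H16 H0.TR
open scoped commutatorElement

theorem th_s_2 : allZ (fun c => bif c.beq 0 || H0.Fi.srch thK thF (nat_lit 128) (nat_lit 512) (nat_lit 3) (thK c) (thF c) then 0 else 1) (nat_lit 48) (nat_lit 24) = true := by decide +kernel
theorem th_s_3 : allZ (fun c => bif c.beq 0 || H0.Fi.srch thK thF (nat_lit 128) (nat_lit 512) (nat_lit 3) (thK c) (thF c) then 0 else 1) (nat_lit 72) (nat_lit 24) = true := by decide +kernel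
theorem th_s_4 : allZ (fun c => bif c.beq 0 || H0.Fi.srch thK thF (nat_lit 128) (nat_lit 512) (nat_lit 3) (thK c) (thF c) then 0 else 1) (nat_lit 96) (nat_lit 24) = true := by decide +kernel
theorem th_s_5 : allZ (fun c => bif c.beq 0 || H0.Fi.srch thK thF (nat_lit 128) (nat_lit 512) (nat_lit 3) (thK c) (thF c) then 0 else 1) (nat_lit 120) (nat_lit 8) = true := by decide +kernel

end H18.TE.V
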