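import Cfsg.Agent.H18.TEg.V.D0

/-! Generated by tools/h0/tr.py. -/

set_option maxRecDepth 100000
set_option maxHeartbeats 0

namespace H18.TE.V
open H16 H0.TR
open scoped commutatorElement

theorem pe_a : allZ2 (permEnt P (nth 0 [nat_lit 0, nat_lit 1, nat_lit 3, nat_lit 2, nat_lit 5, nat_lit 4, nat_lit 7, nat_lit 6, nat_lit 8, nat_lit 9, nat_lit 10]) (nat_lit 672)) (nat_lit 11) (nat_lit 672) = true := by decide +kernel
theorem fx : allZ (fun i => ifz i 0 (ifz (loop1 (fun k => Nat.xor (H16.U62.P k i) i) 0 9) 1 0)) 0 672 = true ∧ allZ (fun k => H16.U62.P k 0) 0 9 = true := by decide +kernel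
theorem nm_k : allZ (fun j => cjL H18.TE.V.P H18.TE.V.P 10 H18.TE.V.B 10 [j] (nth [] [[nat_lit 8, nat_lit 0, nat_lit 5, nat_lit 2, nat_lit 8, nat_lit 3, nat_lit 4, nat_lit 0, nat_lit 8],
  [nat_lit 7, nat_lit 0, nat_lit 7, nat_lit 0, nat_lit 8, nat_lit 0, nat_lit 6, nat_lit 0, nat_lit 6],
  [nat_lit 8, nat_lit 4, nat_lit 7, nat_lit 0, nat_lit 6, nat_lit 8, nat_lit 0, nat_lit 2, nat_lit 6, nat_lit 2, nat_lit 8],
  [nat_lit 1, nat_lit 3, nat_lit 5, nat_lit 7, nat_lit 0, nat_lit 3, nat_lit 8, nat_lit 3, nat_lit 6, nat_lit 3, nat_lit 8],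
  [nat_lit 5, nat_lit 7, nat_lit 1, nat_lit 0, nat_lit 7, nat_lit 4, nat_lit 8, nat_lit 3, nat_lit 4, nat_lit 8],
  [nat_lit 8, nat_lit 3, nat_lit 5, nat_lit 6, nat_lit 8, nat_lit 0, nat_lit 4, nat_lit 4],
  [nat_lit 6, nat_lit 0, nat_lit 1, nat_lit 6, nat_lit 3, nat_lit 8, nat_lit 5, nat_lit 7, nat_lit 8, nat_lit 2, nat_lit 0],
  [nat_lit 0, nat_lit 7, nat_lit 0, nat_lit 3, nat_lit 7, nat_lit 8, nat_lit 3, nat_lit 6, nat_lit 3, nat_lit 8, nat_lit 2],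
  [nat_lit 4, nat_lit 0, nat_lit 7, nat_lit 0, nat_lit 8, nat_lit 0, nat_lit 6, nat_lit 0, nat_lit 5],
  [nat_lit 8, nat_lit 1, nat_lit 4, nat_lit 0, nat_lit 7, nat_lit 1, nat_lit 8, nat_lit 9, nat_lit 8, nat_lit 3, nat_lit 6, nat_lit 2, nat_lit 8]] j)) 0 10 = true := by decide +kernel
theorem t_lt : allL (ltAll 11) t_W = true := by decide +kernel
theorem t_m_a : allZ2 (matEnt (wdsP H18.TE.V.P t_W) t_P) (nat_lit 16) (nat_lit 672) = true := by decide +kernel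
theorem t9 : allZ (fun k => ltAll 10 (nth [] t_W k)) 0 9 = true := by decide +kernel

end H18.TE.V
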